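import Groth.Agent.L27.ExtZero.Cont
import Groth.Prelude.Def_PBC
import Groth.Agent.L28.LocConst.Basic
import Groth.Prelude.Def_EtShriek2
import Groth.Prelude.Def_EtCore
import Mathlib.CategoryTheory.Sites.ConstantSheaf
import Mathlib.CategoryTheory.Adjunction.Unique
import Mathlib.CategoryTheory.MorphismProperty.Comma

/-!
The two models of the extension by zero of a constant sheaf.
-/

set_option autoImplicit false
set_option linter.style.haveILetI false

universe u

open CategoryTheory CategoryTheory.Limits AlgebraicGeometry Opposite

set_option backward.isDefEq.respectTransparency.types false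

namespace Groth.L28.ExtShriek

variable {X : Scheme.{u}} (U : X.Etale) [EtShriek.JCont (U := U.left) (X := X) U.hom]

/-- the image of the terminal object -/
noncomputable def topIso : (EtShriek.compEtale (U := U.left) (X := X) U.hom).obj (EtCoh.top U.left) ≅ U :=
  MorphismProperty.Over.isoMk (Iso.refl _) rfl

/-- evaluation of a restriction at the top is evaluation at the object -/
noncomputable def sectTopIso :
    EtShriek.restrAlong (U := U.left) (X := X) U.hom ⋙ (sheafSections U.left.smallEtaleTopology AddCommGrpCat.{u + 1}).obj (op (EtCoh.top U.left)) ≅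
      X.smallEtaleTopology.overPullback AddCommGrpCat.{u + 1} U ⋙
        (sheafSections (X.smallEtaleTopology.over U) AddCommGrpCat.{u + 1}).obj (op (Over.mk (𝟙 U))) :=
  (sheafSections X.smallEtaleTopology AddCommGrpCat.{u + 1}).mapIso (topIso U).symm.op

/-- the extension by zero of a constant sheaf in the two models -/
noncomputable def constExtIso :
    constantSheaf U.left.smallEtaleTopology AddCommGrpCat.{u + 1} ⋙ EtShriek.extZero (U := U.left) (X := X) U.hom ≅
      constantSheaf (X.smallEtaleTopology.over U) AddCommGrpCat.{u + 1} ⋙ EtPBC.extZero U :=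
  Adjunction.leftAdjointUniq
    (((constantSheafAdj U.left.smallEtaleTopology AddCommGrpCat.{u + 1}
      (EtCore.topIsTerminal U.left)).comp (EtShriek.extZeroAdj (U := U.left) (X := X) U.hom)).ofNatIsoRight
        (sectTopIso U))
    ((constantSheafAdj (X.smallEtaleTopology.over U) AddCommGrpCat.{u + 1} Over.mkIdTerminal).comp (EtPBC.extZeroAdj U))

/-- `j_! M` is the extension by zero of the constant sheaf -/
noncomputable def extZeroConstIso (M : Type) [AddCommGroup M] :
    (EtShriek.extZero (U := U.left) (X := X) U.hom).obj (EtCoh.const U.left M) ≅ EtPBC.extZeroConst U M :=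
  (constExtIso U).app _

end Groth.L28.ExtShriek

namespace Groth.L28.ExtShriek

theorem isFLC_const (X : Scheme.{u}) (M : Type) [AddCommGroup M] [Finite M] :
    EtCoh.IsFiniteLocallyConstant (EtCoh.const X M) :=
  ⟨PUnit, fun _ => EtCoh.top X, fun x => ⟨PUnit.unit, x, rfl⟩, fun _ => ⟨M, inferInstance, inferInstance,
    ⟨LocConst.constCompat (J := X.smallEtaleTopology.over (EtCoh.top X)) (K := X.smallEtaleTopology)
      (Over.forget (EtCoh.top X)) _⟩⟩⟩

end Groth.L28.ExtShriek
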