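import Groth.Agent.L28.Strata.Support

/-!
Stalks of constructible sheaves are finite and their vanishing depends only on the point.
-/

set_option autoImplicit false
set_option linter.style.haveILetI false

universe u

open CategoryTheory CategoryTheory.Limits AlgebraicGeometry Opposite

set_option backward.isDefEq.respectTransparency.types false

namespace Groth.L28.ExtShriek

theorem exists_stalk_model {X : Scheme.{u}} [CompactSpace X] [QuasiSeparatedSpace X] {H : EtCoh.Ab X}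
    (hH : EtPBC.IsConstructible H) (x : X) :
    ∃ (M : Type) (_ : AddCommGroup M) (_ : Finite M), ∀ (Ω : Type u) [Field Ω] [IsSepClosed Ω]
      (ξ : Spec (CommRingCat.of Ω) ⟶ X), ξ.base default = x →
        Nonempty ((EtCoh.stalk ξ).obj H ≅ AddCommGrpCat.of (ULift.{u + 1} M)) := by
  rw [Strata.isConstructible_iff, Strata.loc_iff_strat (Strata.stable_lcPred H)] at hH
  obtain ⟨n, T, g, h1, -, -, h4, h5⟩ := hH
  obtain ⟨i, t, rfl⟩ := Set.mem_iUnion.1 (h4.symm ▸ Set.mem_univ x : x ∈ ⋃ i, Set.range (g i))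
  obtain ⟨ι, U, hU, hM⟩ := h5 i
  obtain ⟨k, z, hz⟩ := hU t
  obtain ⟨M, _, hfin, ⟨e⟩⟩ := hM k
  refine ⟨M, inferInstance, hfin, fun Ω _ _ ξ hξ => ?_⟩
  haveI := h1 i
  obtain ⟨ξ', rfl⟩ := EtModStalk.exists_lift (g i) ξ ⟨t, hξ.symm⟩
  obtain ⟨y, -⟩ := Groth.L27.EtSite.exists_fiber ξ' (U k) z (hz.trans ((g i).isEmbedding.injective hξ).symm)
  obtain ⟨e'⟩ := Locus.stalk_trivialised e ξ' y
  exact ⟨((Groth.L27.EtSite.stalkPullIso (g i) ξ').app H).symm ≪≫ e'⟩

theorem finite_stalk {X : Scheme.{u}} [CompactSpace X] [QuasiSeparatedSpace X] {H : EtCoh.Ab X}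
    (hH : EtPBC.IsConstructible H) {Ω : Type u} [Field Ω] [IsSepClosed Ω] (ξ : Spec (CommRingCat.of Ω) ⟶ X) :
    Finite ((EtCoh.stalk ξ).obj H) := by
  obtain ⟨M, _, hfin, h⟩ := exists_stalk_model hH (ξ.base default)
  obtain ⟨e⟩ := h Ω ξ rfl
  exact Finite.of_equiv _ e.addCommGroupIsoToAddEquiv.toEquiv.symm

theorem subsingleton_stalk_all {X : Scheme.{u}} [CompactSpace X] [QuasiSeparatedSpace X] {H : EtCoh.Ab X}
    (hH : EtPBC.IsConstructible H) {Ω : Type u} [Field Ω] [IsSepClosed Ω] (ξ : Spec (CommRingCat.of Ω) ⟶ X)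
    [Subsingleton ((EtCoh.stalk ξ).obj H)] (Ω' : Type u) [Field Ω'] [IsSepClosed Ω']
    (ξ' : Spec (CommRingCat.of Ω') ⟶ X) (h : ξ'.base default = ξ.base default) :
    Subsingleton ((EtCoh.stalk ξ').obj H) := by
  obtain ⟨M, _, -, hm⟩ := exists_stalk_model hH (ξ.base default)
  obtain ⟨e⟩ := hm Ω ξ rfl
  obtain ⟨e'⟩ := hm Ω' ξ' h
  exact (e' ≪≫ e.symm).addCommGroupIsoToAddEquiv.toEquiv.subsingleton

end Groth.L28.ExtShriek
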