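import Groth.Agent.L28.ExtShriek.Main
import Groth.Agent.L28.ExtShriek.ConstIso
import Groth.Agent.L28.ExtShriek.Stalks
import Groth.Agent.L28.Strata.Serre
import Groth.Agent.L27.EtSite.Points
import Mathlib.Topology.Spectral.ConstructibleTopology
import Mathlib.AlgebraicGeometry.Properties
import Mathlib.Data.ZMod.Basic
import Mathlib.CategoryTheory.Limits.Constructions.Filtered

/-!
Constructible sheaves are cokernels of maps between sums of extensions by zero of constant sheaves.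
-/

set_option autoImplicit false
set_option linter.style.haveILetI false

universe u

open CategoryTheory CategoryTheory.Limits AlgebraicGeometry Opposite

set_option backward.isDefEq.respectTransparency.types false

namespace Groth.L28.ExtShriek

variable {X : Scheme.{u}}

/-- the adjunction computing maps out of `j_! M` -/
noncomputable abbrev constExtAdj (V : X.Etale) :=
  (constantSheafAdj (X.smallEtaleTopology.over V) AddCommGrpCat.{u + 1} Over.mkIdTerminal).comp (EtPBC.extZeroAdj V)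

theorem exists_map_of_section {F : EtCoh.Ab X} (V : X.Etale) (n : ℕ) (s : EtCoh.sect F V) (hs : n • s = 0) :
    ∃ (φ : EtPBC.extZeroConst V (ZMod n) ⟶ F) (t : EtCoh.sect (EtPBC.extZeroConst V (ZMod n)) V),
      φ.hom.app (op V) t = s := by
  let g : ZMod n →+ EtCoh.sect F V := ZMod.lift n ⟨zmultiplesHom _ s, by simpa using hs⟩
  let ψ : AddCommGrpCat.of (ULift.{u + 1} (ZMod n)) ⟶ F.obj.obj (op V) :=
    AddCommGrpCat.ofHom (g.comp (AddEquiv.ulift : ULift.{u + 1} (ZMod n) ≃+ ZMod n).toAddMonoidHom)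
  let φ : EtPBC.extZeroConst V (ZMod n) ⟶ F :=
    ((constExtAdj V).homEquiv (AddCommGrpCat.of (ULift.{u + 1} (ZMod n))) F).symm ψ
  refine ⟨φ, (constExtAdj V).unit.app (AddCommGrpCat.of (ULift.{u + 1} (ZMod n))) (ULift.up 1), ?_⟩
  have e := ((constExtAdj V).homEquiv_unit (X := AddCommGrpCat.of (ULift.{u + 1} (ZMod n))) (Y := F) (f := φ)).symm.trans
    (Equiv.apply_symm_apply _ ψ)
  refine (congrArg (fun m : AddCommGrpCat.of (ULift.{u + 1} (ZMod n)) ⟶ F.obj.obj (op V) => m (ULift.up 1)) e).trans ?_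
  show g 1 = s
  rw [show (1 : ZMod n) = ((1 : ℤ) : ZMod n) from Int.cast_one.symm]
  exact (ZMod.lift_coe n _ 1).trans (one_zsmul s)

theorem exists_affine_refine {Ω : Type u} [Field Ω] [IsSepClosed Ω] {ξ : Spec (CommRingCat.of Ω) ⟶ X} (V : X.Etale)
    (y : (Scheme.pointSmallEtale ξ).fiber.obj V) :
    ∃ (V' : X.Etale) (g : V' ⟶ V) (y' : (Scheme.pointSmallEtale ξ).fiber.obj V'),
      IsAffine V'.left ∧ (Scheme.pointSmallEtale ξ).fiber.map g y' = y := by
  let p : Spec (CommRingCat.of Ω) ⟶ V.left := y.left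
  obtain ⟨W, hW, hvW⟩ : ∃ W : V.left.Opens, IsAffineOpen W ∧ p (default : Spec (CommRingCat.of Ω)) ∈ W := by
    obtain ⟨_, ⟨W, hW, rfl⟩, hvW, -⟩ :=
      V.left.isBasis_affineOpens.exists_subset_of_mem_open
        (Set.mem_univ (p (default : Spec (CommRingCat.of Ω)))) isOpen_univ
    exact ⟨W, hW, hvW⟩
  let ι : W.toScheme ⟶ V.left := W.ι
  have hr : Set.range p ⊆ Set.range ι := by
    rintro _ ⟨z, rfl⟩
    show p z ∈ Set.range W.ι
    rw [Scheme.Opens.range_ι, Subsingleton.elim z default]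
    exact hvW
  let V' : X.Etale := MorphismProperty.Over.mk ⊤ (ι ≫ V.hom)
    (EtCoh.etaleMP.comp_mem _ _ (show EtCoh.etaleMP ι from inferInstanceAs (AlgebraicGeometry.Etale W.ι)) V.prop)
  let g : V' ⟶ V := MorphismProperty.Over.homMk ι rfl
  haveI : IsOpenImmersion ι := inferInstanceAs (IsOpenImmersion W.ι)
  let l : Spec (CommRingCat.of Ω) ⟶ W.toScheme := IsOpenImmersion.lift ι p hr
  have hl : l ≫ ι = p := IsOpenImmersion.lift_fac _ _ _
  refine ⟨V', g, Over.homMk l ?_, hW, ?_⟩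
  · refine Eq.trans ?_ (Over.w y)
    exact (Category.assoc l ι V.hom).symm.trans (congrArg (fun m => m ≫ V.hom) hl)
  · exact Over.OverMorphism.ext hl

theorem exists_atom {F : EtCoh.Ab X} {Ω : Type u} [Field Ω] [IsSepClosed Ω] (ξ : Spec (CommRingCat.of Ω) ⟶ X)
    [Finite ((EtCoh.stalk ξ).obj F)] (a : (EtCoh.stalk ξ).obj F) :
    ∃ (V : X.Etale) (n : ℕ) (_ : 0 < n) (_ : IsAffine V.left) (φ : EtPBC.extZeroConst V (ZMod n) ⟶ F),
      a ∈ Set.range ((EtCoh.stalk ξ).map φ) := by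
  let Φ := Scheme.pointSmallEtale ξ
  obtain ⟨V₀, y₀, s₀, hs₀⟩ := Φ.toPresheafFiber_jointly_surjective (P := F.obj) a
  obtain ⟨n, hn, hna⟩ : ∃ n : ℕ, 0 < n ∧ n • a = 0 :=
    ⟨_, addOrderOf_pos a, addOrderOf_nsmul_eq_zero a⟩
  have h0 : Φ.toPresheafFiber V₀ y₀ F.obj (n • s₀) = Φ.toPresheafFiber V₀ y₀ F.obj 0 := by
    rw [map_nsmul, hs₀, map_zero]
    exact hna
  obtain ⟨V₁, f₁, y₁, hy₁, hf₁⟩ := (Φ.toPresheafFiber_eq_iff' _ _ _ _).1 h0
  obtain ⟨V, g, y, hV, hy⟩ := exists_affine_refine V₁ y₁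
  let s : EtCoh.sect F V := F.obj.map g.op (F.obj.map f₁.op s₀)
  have hs : n • s = 0 := by
    show n • F.obj.map g.op (F.obj.map f₁.op s₀) = 0
    rw [← map_nsmul, ← map_nsmul]
    refine (congrArg (fun r => F.obj.map g.op r) hf₁).trans ?_
    rw [map_zero, map_zero]
  obtain ⟨φ, t, ht⟩ := exists_map_of_section V n s hs
  refine ⟨V, n, hn, hV, φ, Φ.toPresheafFiber V y (EtPBC.extZeroConst V (ZMod n)).obj t, ?_⟩
  refine (GrothendieckTopology.Point.toPresheafFiber_naturality_apply Φ φ.hom V y t).trans ?_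
  refine (congrArg (fun r => Φ.toPresheafFiber V y F.obj r) ht).trans ?_
  show Φ.toPresheafFiber V y F.obj (F.obj.map g.op (F.obj.map f₁.op s₀)) = a
  rw [GrothendieckTopology.Point.toPresheafFiber_w_apply, hy, GrothendieckTopology.Point.toPresheafFiber_w_apply, hy₁, hs₀]

theorem isConstructible_of_iso {F G : EtCoh.Ab X} (e : F ≅ G) (h : EtPBC.IsConstructible F) :
    EtPBC.IsConstructible G := by
  rw [Strata.isConstructible_iff] at h ⊢
  exact h.mono fun T g hg => Strata.isFLC_of_iso ((EtCoh.pull g).mapIso e) hg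

theorem isConstructible_biproduct {ι : Type} [Finite ι] (f : ι → EtCoh.Ab X) (h : ∀ i, EtPBC.IsConstructible (f i)) :
    EtPBC.IsConstructible (⨁ f) := by
  refine (Strata.isConstructible_iff _).2 fun U hU => ?_
  haveI : IsAffine U.toScheme := hU
  have hs : ∀ i, Strata.Strat U.toScheme (Strata.res U.ι (Strata.lcPred (f i))) :=
    fun i => (Strata.isConstructible_iff _).1 (h i) U hU
  refine (EtaleStrata.strat_forall (fun i => Strata.res U.ι (Strata.lcPred (f i)))
    (fun i => (Strata.stable_lcPred _).res _) hs).mono fun T g hg => ?_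
  exact Strata.isFLC_of_iso ((EtCoh.pull (g ≫ U.ι)).mapBiproduct f).symm (isFLC_biproduct _ hg)

theorem isConstructible_extZeroConst [CompactSpace X] [QuasiSeparatedSpace X] (V : X.Etale) [CompactSpace V.left]
    [QuasiSeparatedSpace V.left] (M : Type) [AddCommGroup M] [Finite M] :
    EtPBC.IsConstructible (EtPBC.extZeroConst V M) := by
  haveI : AlgebraicGeometry.Etale (X := V.left) (Y := X) V.hom := V.prop
  haveI := Groth.L27.ExtZero.jCont (U := V.left) (X := X) V.hom
  exact isConstructible_of_iso (extZeroConstIso V M)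
    (isConstructible_extZero (U := V.left) (X := X) V.hom (EtCoh.const V.left M) (isFLC_const V.left M))

theorem surjective_map_desc {ι : Type} [Finite ι] {M : ι → EtCoh.Ab X} {F : EtCoh.Ab X} (φ : ∀ i, M i ⟶ F)
    {Ω : Type u} [Field Ω] [IsSepClosed Ω] (ξ : Spec (CommRingCat.of Ω) ⟶ X) {a : (EtCoh.stalk ξ).obj F} {i : ι}
    (ha : a ∈ Set.range ((EtCoh.stalk ξ).map (φ i))) :
    a ∈ Set.range ((EtCoh.stalk ξ).map (biproduct.desc φ)) := by
  obtain ⟨t, rfl⟩ := ha
  refine ⟨(EtCoh.stalk ξ).map (biproduct.ι M i) t, ?_⟩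
  rw [← ConcreteCategory.comp_apply, ← Functor.map_comp, biproduct.ι_desc]

theorem stalk_subsingleton_cokernel_iff {F G : EtCoh.Ab X} (φ : F ⟶ G) {Ω : Type u} [Field Ω] [IsSepClosed Ω]
    (ξ : Spec (CommRingCat.of Ω) ⟶ X) :
    Subsingleton ((EtCoh.stalk ξ).obj (cokernel φ)) ↔ Function.Surjective ((EtCoh.stalk ξ).map φ) := by
  haveI : PreservesColimitsOfSize.{0, 0} (EtCoh.stalk ξ) :=
    ((Scheme.pointSmallEtale ξ).skyscraperSheafAdjunction).leftAdjoint_preservesColimits
  let e := (PreservesCokernel.iso (EtCoh.stalk ξ) φ).addCommGroupIsoToAddEquiv.toEquiv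
  rw [← AddCommGrpCat.epi_iff_surjective, Preadditive.epi_iff_isZero_cokernel]
  constructor
  · intro h
    haveI := e.symm.subsingleton
    exact AddCommGrpCat.isZero_of_subsingleton _
  · intro h
    haveI := AddCommGrpCat.subsingleton_of_isZero h
    exact e.subsingleton

theorem isOpen_constructible [CompactSpace X] [QuasiSeparatedSpace X] {s : Set X}
    (hs : Topology.IsConstructible s) :
    IsOpen ((WithTopology.ofTopology : WithConstructibleTopology X → X) ⁻¹' s) := by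
  have h : IsOpen ((WithTopology.ofTopology : WithConstructibleTopology X → X) ⁻¹' s) ∧
      IsClosed ((WithTopology.ofTopology : WithConstructibleTopology X → X) ⁻¹' s) := by
    induction hs using Topology.IsConstructible.empty_union_induction with
    | open_retrocompact U hU hUc =>
      refine ⟨?_, ⟨?_⟩⟩
      · exact hUc.isCompact.isOpen_constructibleTopology_of_isOpen hU
      · exact IsCompact.isOpen_constructibleTopology_of_isClosed (s := Uᶜ) (by rw [compl_compl]; exact hUc.isCompact)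
          hU.isClosed_compl
    | union s hs t ht h1 h2 => exact ⟨h1.1.union h2.1, h1.2.union h2.2⟩
    | compl s hs h => exact ⟨h.2.isOpen_compl, h.1.isClosed_compl⟩
  exact h.1

theorem exists_epi_gen [CompactSpace X] [QuasiSeparatedSpace X] {F : EtCoh.Ab X} (hF : EtPBC.IsConstructible F)
    (N : ℕ → Prop) (hN : ∀ n, N n → 0 < n)
    (hatom : ∀ (Ω : Type u) [Field Ω] [IsSepClosed Ω] (ξ : Spec (CommRingCat.of Ω) ⟶ X) (a : (EtCoh.stalk ξ).obj F),
      ∃ (V : X.Etale) (n : ℕ) (_ : N n) (_ : IsAffine V.left) (φ : EtPBC.extZeroConst V (ZMod n) ⟶ F),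
        a ∈ Set.range ((EtCoh.stalk ξ).map φ)) :
    ∃ (a : ℕ) (U : Fin a → X.Etale) (n : Fin a → ℕ), (∀ i, N (n i) ∧ IsAffine (U i).left) ∧
      ∃ φ : (⨁ fun i => EtPBC.extZeroConst (U i) (ZMod (n i))) ⟶ F, Epi φ := by
  classical
  have local_ : ∀ x : X, ∃ (a : ℕ) (U : Fin a → X.Etale) (n : Fin a → ℕ) (φ : ∀ i, EtPBC.extZeroConst (U i) (ZMod (n i)) ⟶ F),
      (∀ i, N (n i) ∧ IsAffine (U i).left) ∧ ∀ (Ω : Type u) [Field Ω] [IsSepClosed Ω]
        (ξ : Spec (CommRingCat.of Ω) ⟶ X), ξ.base default = x →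
          Subsingleton ((EtCoh.stalk ξ).obj (cokernel (biproduct.desc φ))) := by
    intro x
    obtain ⟨Ω, _, _, ξ, hξ⟩ := Groth.L27.EtSite.exists_geometric_point x
    haveI := finite_stalk hF ξ
    choose V n hn hV φ hφ using fun b : (EtCoh.stalk ξ).obj F => hatom Ω ξ b
    obtain ⟨a, ⟨σ⟩⟩ := Finite.exists_equiv_fin ((EtCoh.stalk ξ).obj F)
    refine ⟨a, fun i => V (σ.symm i), fun i => n (σ.symm i), fun i => φ (σ.symm i), fun i => ⟨hn _, hV _⟩, ?_⟩
    intro Ω' _ _ ξ' hξ'
    haveI : Subsingleton ((EtCoh.stalk ξ).obj (cokernel (biproduct.desc fun i => φ (σ.symm i)))) := by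
      refine (stalk_subsingleton_cokernel_iff _ ξ).2 fun b => ?_
      exact surjective_map_desc (fun i => φ (σ.symm i)) ξ (i := σ b) (by rw [σ.symm_apply_apply]; exact hφ b)
    have hc : EtPBC.IsConstructible (cokernel (biproduct.desc fun i => φ (σ.symm i))) := by
      refine (Strata.isConstructible_kernel_cokernel _ (isConstructible_biproduct _ fun i => ?_) hF).2
      haveI : NeZero (n (σ.symm i)) := ⟨(hN _ (hn _)).ne'⟩
      haveI := hV (σ.symm i)
      exact isConstructible_extZeroConst _ _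
    exact subsingleton_stalk_all hc ξ Ω' ξ' (hξ'.trans hξ.symm)
  choose a U n φ hUn hloc using local_
  let Z : X → Set X := fun x => {z | ∀ (Ω : Type u) [Field Ω] [IsSepClosed Ω] (ξ : Spec (CommRingCat.of Ω) ⟶ X),
    ξ.base default = z → Subsingleton ((EtCoh.stalk ξ).obj (cokernel (biproduct.desc (φ x))))}
  have hZc : ∀ x, Topology.IsConstructible (Z x) := fun x => by
    refine Locus.isConstructible_zero_stalks ?_
    refine (Strata.isConstructible_kernel_cokernel _ (isConstructible_biproduct _ fun i => ?_) hF).2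
    haveI : NeZero (n x i) := ⟨(hN _ (hUn x i).1).ne'⟩
    haveI := (hUn x i).2
    exact isConstructible_extZeroConst _ _
  obtain ⟨t, ht⟩ := (CompactSpace.isCompact_univ (X := WithConstructibleTopology X)).elim_finite_subcover
    (fun x => (WithTopology.ofTopology : WithConstructibleTopology X → X) ⁻¹' Z x)
    (fun x => isOpen_constructible (hZc x)) (fun z _ => Set.mem_iUnion.2
      ⟨WithTopology.ofTopology z, fun Ω _ _ ξ hξ => hloc _ Ω ξ hξ⟩)
  obtain ⟨m, ⟨σ⟩⟩ := Finite.exists_equiv_fin (Σ x : t, Fin (a x.1))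
  refine ⟨m, fun k => U (σ.symm k).1.1 (σ.symm k).2, fun k => n (σ.symm k).1.1 (σ.symm k).2,
    fun k => hUn _ _, biproduct.desc fun k => φ (σ.symm k).1.1 (σ.symm k).2, ?_⟩
  refine (Groth.L27.EtSite.epi_iff_stalks _).2 fun Ω _ _ ξ => ?_
  intro b
  obtain ⟨x, hx, hz⟩ := Set.mem_iUnion₂.1 (ht (Set.mem_univ (WithTopology.toTopology (constructibleTopology X) (ξ.base default))))
  haveI : Subsingleton ((EtCoh.stalk ξ).obj (cokernel (biproduct.desc (φ x)))) := hz Ω ξ rfl
  obtain ⟨c, rfl⟩ := (stalk_subsingleton_cokernel_iff _ ξ).1 this b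
  let F₀ := EtCoh.stalk ξ
  haveI : F₀.Additive := Functor.additive_of_preserves_binary_products _
  let S : AddSubgroup (F₀.obj F) := (F₀.map (biproduct.desc fun k => φ (σ.symm k).1.1 (σ.symm k).2)).hom.range
  have hmem : ∀ (q : Σ x : t, Fin (a x.1)) (y : F₀.obj (EtPBC.extZeroConst (U q.1.1 q.2) (ZMod (n q.1.1 q.2)))),
      F₀.map (φ q.1.1 q.2) y ∈ S := by
    intro q
    obtain ⟨k, rfl⟩ := σ.symm.surjective q
    exact fun y => surjective_map_desc (fun k => φ (σ.symm k).1.1 (σ.symm k).2) ξ (i := k) ⟨y, rfl⟩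
  have e : F₀.map (biproduct.desc (φ x)) =
      ∑ i, F₀.map (biproduct.π (fun i => EtPBC.extZeroConst (U x i) (ZMod (n x i))) i) ≫ F₀.map (φ x i) := by
    refine (congrArg (fun m => F₀.map m) biproduct.desc_eq).trans ?_
    simp only [Functor.map_sum, Functor.map_comp]
  show F₀.map (biproduct.desc (φ x)) c ∈ S
  have h2 := map_sum (AddCommGrpCat.homAddEquiv (M := F₀.obj (⨁ fun i => EtPBC.extZeroConst (U x i) (ZMod (n x i)))) (N := F₀.obj F))
    (fun i => F₀.map (biproduct.π (fun i => EtPBC.extZeroConst (U x i) (ZMod (n x i))) i) ≫ F₀.map (φ x i)) Finset.univ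
  rw [e]
  refine (congrArg (fun (m : _ →+ _) => m c ∈ S) h2).mpr ?_
  rw [AddMonoidHom.finsetSum_apply]
  exact sum_mem fun i _ => hmem ⟨⟨x, hx⟩, i⟩ _

theorem exists_epi [CompactSpace X] [QuasiSeparatedSpace X] {F : EtCoh.Ab X} (hF : EtPBC.IsConstructible F) :
    ∃ (a : ℕ) (U : Fin a → X.Etale) (n : Fin a → ℕ), (∀ i, 0 < n i ∧ IsAffine (U i).left) ∧
      ∃ φ : (⨁ fun i => EtPBC.extZeroConst (U i) (ZMod (n i))) ⟶ F, Epi φ :=
  exists_epi_gen hF (fun n => 0 < n) (fun _ h => h) fun _ _ _ ξ a =>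
    haveI := finite_stalk hF ξ
    exists_atom ξ a

theorem exists_presentation [CompactSpace X] [QuasiSeparatedSpace X] {F : EtCoh.Ab X} (hF : EtPBC.IsConstructible F) :
    ∃ (a b : ℕ) (U : Fin a → X.Etale) (V : Fin b → X.Etale) (n : Fin a → ℕ) (m : Fin b → ℕ),
      (∀ i, 0 < n i ∧ IsAffine (U i).left) ∧ (∀ j, 0 < m j ∧ IsAffine (V j).left) ∧
      ∃ φ : (⨁ fun j => EtPBC.extZeroConst (V j) (ZMod (m j))) ⟶ (⨁ fun i => EtPBC.extZeroConst (U i) (ZMod (n i))),
        Nonempty (F ≅ cokernel φ) := by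
  obtain ⟨a, U, n, hU, p, hp⟩ := exists_epi hF
  have hK : EtPBC.IsConstructible (kernel p) := by
    refine (Strata.isConstructible_kernel_cokernel p (isConstructible_biproduct _ fun i => ?_) hF).1
    haveI : NeZero (n i) := ⟨(hU i).1.ne'⟩
    haveI := (hU i).2
    exact isConstructible_extZeroConst _ _
  obtain ⟨b, V, m, hV, q, hq⟩ := exists_epi hK
  refine ⟨a, b, U, V, n, m, hU, hV, q ≫ kernel.ι p, ⟨?_⟩⟩
  exact (Abelian.epiIsCokernelOfKernel _ (kernelIsKernel p)).coconePointUniqueUpToIso (cokernelIsCokernel _) ≪≫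
    (cokernelEpiComp q (kernel.ι p)).symm

end Groth.L28.ExtShriek
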