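import Groth.Agent.L27.ExtZero.Cont
import Groth.Agent.L27.ExtZero.Restr
import Groth.Agent.L27.EtSite.Points
import Groth.Agent.L28.LocConst.Basic
import Groth.Agent.L28.LocConst.PullInst
import Mathlib.CategoryTheory.Sites.Over

/-!
Finite local constancy is local for étale coverings.
-/

set_option autoImplicit false
set_option linter.style.haveILetI false

universe u

open CategoryTheory CategoryTheory.Limits AlgebraicGeometry Opposite GrothendieckTopology

set_option backward.isDefEq.respectTransparency.types false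

namespace Groth.L28.ExtShriek

variable {X W : Scheme.{u}} (j : W ⟶ X) [hj : AlgebraicGeometry.Etale j]

/-- the lift of an object over a composite -/
noncomputable def liftOver {V : W.Etale} {T : X.Etale} (g : T ⟶ (EtShriek.compEtale j).obj V) :
    {V' : W.Etale // V'.left = T.left} :=
  have e : g.left ≫ V.hom ≫ j = T.hom := MorphismProperty.Over.w g
  ⟨MorphismProperty.Over.mk ⊤ (g.left ≫ V.hom)
    (EtCoh.etaleMP.of_postcomp (W' := EtCoh.etaleMP) (g.left ≫ V.hom) j hj
      (by rw [Category.assoc, e]; exact T.prop)), rfl⟩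

theorem isCocontinuous_compEtale :
    (EtShriek.compEtale j).IsCocontinuous W.smallEtaleTopology X.smallEtaleTopology := by
  refine ⟨fun {V S} hS => (Groth.L27.EtSite.mem_topology_iff _).2 fun x => ?_⟩
  obtain ⟨Z, g, z, hg, hz⟩ := (Groth.L27.EtSite.mem_topology_iff _).1 hS x
  let m : (liftOver j g).1 ⟶ V := MorphismProperty.Over.homMk g.left rfl
  let e : (EtShriek.compEtale j).obj (liftOver j g).1 ⟶ Z := MorphismProperty.Over.homMk (𝟙 Z.left)
    ((Category.id_comp _).trans ((MorphismProperty.Over.w g).symm.trans (Category.assoc _ _ _).symm))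
  refine ⟨(liftOver j g).1, m, z, ?_, hz⟩
  show S ((EtShriek.compEtale j).map m)
  rw [show (EtShriek.compEtale j).map m = e ≫ g from MorphismProperty.Over.Hom.ext (Category.id_comp _).symm]
  exact S.downward_closed hg _

/-- a trivialisation of the inverse image is a trivialisation -/
theorem trivial_of_pull {F : EtCoh.Ab X} {V : W.Etale} {M : AddCommGrpCat.{u + 1}}
    (α : EtCoh.restr ((EtCoh.pull j).obj F) V ≅
      (constantSheaf (W.smallEtaleTopology.over V) AddCommGrpCat.{u + 1}).obj M) :
    Nonempty (EtCoh.restr F ((EtShriek.compEtale j).obj V) ≅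
      (constantSheaf (X.smallEtaleTopology.over ((EtShriek.compEtale j).obj V)) AddCommGrpCat.{u + 1}).obj M) := by
  haveI := Groth.L27.ExtZero.jCont j
  haveI := isCocontinuous_compEtale j
  let G : Over V ⥤ Over ((EtShriek.compEtale j).obj V) := Over.post (EtShriek.compEtale j)
  haveI : G.Full := ⟨fun {A B} k => by
    have hk : k.left.left ≫ B.hom.left = A.hom.left := congrArg (fun m => m.left) (Over.w k)
    let m : A.left ⟶ B.left := MorphismProperty.Over.homMk k.left.left
      ((congrArg (fun r => k.left.left ≫ r) (MorphismProperty.Over.w B.hom).symm).trans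
        ((Category.assoc _ _ _).symm.trans ((congrArg (fun r => r ≫ V.hom) hk).trans (MorphismProperty.Over.w A.hom))))
    exact ⟨Over.homMk m (MorphismProperty.Over.Hom.ext hk),
      Over.OverMorphism.ext (MorphismProperty.Over.Hom.ext rfl)⟩⟩
  haveI : G.Faithful := ⟨fun {A B} a b h =>
    Over.OverMorphism.ext ((EtShriek.compEtale j).map_injective (congrArg CommaMorphism.left h))⟩
  haveI : G.EssSurj := ⟨fun Z => by
    let m : (liftOver j Z.hom).1 ⟶ V := MorphismProperty.Over.homMk Z.hom.left rfl
    let e : (EtShriek.compEtale j).obj (liftOver j Z.hom).1 ≅ Z.left := MorphismProperty.Over.isoMk (Iso.refl _)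
      ((Category.id_comp _).trans ((MorphismProperty.Over.w Z.hom).symm.trans (Category.assoc _ _ _).symm))
    exact ⟨Over.mk m, ⟨Over.isoMk e (MorphismProperty.Over.Hom.ext (Category.id_comp _))⟩⟩⟩
  haveI : G.IsEquivalence := {}
  haveI : G.IsContinuous (W.smallEtaleTopology.over V)
      (X.smallEtaleTopology.over ((EtShriek.compEtale j).obj V)) :=
    Functor.isContinuous_of_coverPreserving (compatiblePreservingOfFlat _ _)
      ((EtShriek.coverPreserving_compEtale j).overPost V)
  let β : (G.sheafPushforwardContinuous AddCommGrpCat.{u + 1} (W.smallEtaleTopology.over V)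
      (X.smallEtaleTopology.over ((EtShriek.compEtale j).obj V))).obj
        (EtCoh.restr F ((EtShriek.compEtale j).obj V)) ≅
      (G.sheafPushforwardContinuous AddCommGrpCat.{u + 1} (W.smallEtaleTopology.over V)
      (X.smallEtaleTopology.over ((EtShriek.compEtale j).obj V))).obj
        ((constantSheaf (X.smallEtaleTopology.over ((EtShriek.compEtale j).obj V)) AddCommGrpCat.{u + 1}).obj M) :=
    ((W.smallEtaleTopology.overPullback AddCommGrpCat.{u + 1} V).mapIso ((Groth.L27.ExtZero.pullRestr j).symm.app F)) ≪≫ α ≪≫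
      (LocConst.constCompat (J := W.smallEtaleTopology.over V)
        (K := X.smallEtaleTopology.over ((EtShriek.compEtale j).obj V)) G M).symm
  exact ⟨(fullyFaithfulSheafToPresheaf _ _).preimageIso
    (((Functor.whiskeringLeft _ _ AddCommGrpCat.{u + 1}).obj G.op).preimageIso
      ((sheafToPresheaf _ _).mapIso β))⟩

omit j hj in
/-- finite local constancy is étale local -/
theorem isFLC_of_cover {F : EtCoh.Ab X} (h : ∀ x : X, ∃ (T : Scheme.{u}) (g : T ⟶ X) (_ : AlgebraicGeometry.Etale g),
      x ∈ Set.range g ∧ EtCoh.IsFiniteLocallyConstant ((EtCoh.pull g).obj F)) :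
    EtCoh.IsFiniteLocallyConstant F := by
  choose T g hg hx hF using h
  choose κ V hV hM using hF
  refine ⟨Σ x, κ x, fun p => haveI := hg p.1; (EtShriek.compEtale (g p.1)).obj (V p.1 p.2), fun x => ?_, fun p => ?_⟩
  · obtain ⟨t, ht⟩ := hx x
    obtain ⟨k, y, hy⟩ := hV x t
    refine ⟨⟨x, k⟩, y, ?_⟩
    show g x ((V x k).hom y) = x
    rw [show (V x k).hom y = t from hy, ht]
  · obtain ⟨M, _, hfin, ⟨α⟩⟩ := hM p.1 p.2
    haveI := hg p.1
    exact ⟨M, inferInstance, hfin, trivial_of_pull (g p.1) α⟩

end Groth.L28.ExtShriek
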