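import Groth.Agent.L27.ExtZero.Unique
import Groth.Agent.L27.ExtZero.Exact
import Groth.Agent.L28.LocConstAb.Serre
import Groth.Agent.L28.Strata.Et
import Mathlib.CategoryTheory.Preadditive.Biproducts
import Mathlib.CategoryTheory.ObjectProperty.Extensions
import Mathlib.CategoryTheory.MorphismProperty.OverAdjunction
import Mathlib.CategoryTheory.Limits.Preserves.Shapes.Biproducts

/-!
Sheaves on a finite disjoint union; finite biproducts in classes closed under extensions.
-/

set_option autoImplicit false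
set_option linter.style.haveILetI false

universe v w u

open CategoryTheory CategoryTheory.Limits AlgebraicGeometry Opposite

set_option backward.isDefEq.respectTransparency.types false

namespace Groth.L28.ExtShriek

theorem prop_biproduct {C : Type w} [Category.{v} C] [Abelian C] [HasFiniteBiproducts C] (P : ObjectProperty C) [P.IsClosedUnderExtensions]
    (h0 : ∀ Z, IsZero Z → P Z) (hiso : ∀ {A B : C}, (A ≅ B) → P A → P B) {ι : Type} [Finite ι] (f : ι → C)
    (h : ∀ i, P (f i)) : P (⨁ f) := by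
  classical
  obtain ⟨n, hn⟩ : ∃ n, Nat.card ι = n := ⟨_, rfl⟩
  induction n using Nat.strong_induction_on generalizing ι with
  | _ n ih =>
    rcases isEmpty_or_nonempty ι with hι | ⟨⟨i⟩⟩
    · exact h0 _ ((IsZero.iff_id_eq_zero _).2 (biproduct.hom_ext _ _ fun j => isEmptyElim j))
    · haveI : HasBiproductsOfShape {j : ι // j ≠ i} C := inferInstance
      have hK : P (kernel (biproduct.π f i)) :=
        hiso (kernelBiproductπIso f i).symm (ih (Nat.card {j : ι // j ≠ i})
          (hn ▸ Finite.card_subtype_lt (p := fun j => j ≠ i) (x := i) (not_not.2 rfl))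
          (Subtype.restrict (fun j => j ≠ i) f) (fun j => h j.1) rfl)
      exact ObjectProperty.prop_X₂_of_shortExact P (S := ShortComplex.mk _ _ (kernel.condition (biproduct.π f i)))
        { exact := ShortComplex.exact_of_f_is_kernel _ (kernelIsKernel _) } hK (h i)

theorem isFLC_of_isZero {X : Scheme.{u}} {F : EtCoh.Ab X} (hF : IsZero F) : EtCoh.IsFiniteLocallyConstant F := by
  refine ⟨PUnit, fun _ => EtCoh.top X, fun x => ⟨PUnit.unit, x, rfl⟩, fun _ => ⟨PUnit, inferInstance, inferInstance, ⟨?_⟩⟩⟩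
  haveI : (X.smallEtaleTopology.overPullback AddCommGrpCat.{u + 1} (EtCoh.top X)).Additive := {}
  haveI : (constantSheaf (X.smallEtaleTopology.over (EtCoh.top X)) AddCommGrpCat.{u + 1}).Additive := by
    haveI : ((sheafSections (X.smallEtaleTopology.over (EtCoh.top X)) AddCommGrpCat.{u + 1}).obj
      (op (Over.mk (𝟙 (EtCoh.top X))))).Additive := {}
    exact Adjunction.left_adjoint_additive (constantSheafAdj _ _ Over.mkIdTerminal)
  exact (Functor.map_isZero _ hF).iso (Functor.map_isZero _ (AddCommGrpCat.isZero_of_subsingleton _))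

theorem isFLC_biproduct {X : Scheme.{u}} {ι : Type} [Finite ι] (f : ι → EtCoh.Ab X)
    (h : ∀ i, EtCoh.IsFiniteLocallyConstant (f i)) : EtCoh.IsFiniteLocallyConstant (⨁ f) := by
  haveI := LocConstAb.isClosedUnderExtensions (X := X)
  exact prop_biproduct (fun F : EtCoh.Ab X => EtCoh.IsFiniteLocallyConstant F) (fun _ hZ => isFLC_of_isZero hZ)
    (fun e hA => Strata.isFLC_of_iso e hA) f h

section Comp

variable {X Y Z : Scheme.{u}} (a : X ⟶ Y) (b : Y ⟶ Z) [AlgebraicGeometry.Etale a] [AlgebraicGeometry.Etale b]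
  [EtShriek.JCont a] [EtShriek.JCont b] [EtShriek.JCont (a ≫ b)]

/-- restrictions compose -/
noncomputable def restrComp : EtShriek.restrAlong b ⋙ EtShriek.restrAlong a ≅ EtShriek.restrAlong (a ≫ b) :=
  Functor.sheafPushforwardContinuousComp' (F := EtShriek.compEtale a) (G := EtShriek.compEtale b)
    (FG := EtShriek.compEtale (a ≫ b))
    ((MorphismProperty.Over.mapComp (Q := ⊤) (P := EtCoh.etaleMP.{u}) (inferInstanceAs (AlgebraicGeometry.Etale a))
      (inferInstanceAs (AlgebraicGeometry.Etale b)) (a ≫ b) rfl).symm)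
    AddCommGrpCat.{u + 1} X.smallEtaleTopology Y.smallEtaleTopology Z.smallEtaleTopology

/-- extensions by zero compose -/
noncomputable def extZeroComp : EtShriek.extZero a ⋙ EtShriek.extZero b ≅ EtShriek.extZero (a ≫ b) :=
  Adjunction.leftAdjointUniq (((EtShriek.extZeroAdj a).comp (EtShriek.extZeroAdj b)).ofNatIsoRight (restrComp a b))
    (EtShriek.extZeroAdj (a ≫ b))

end Comp

section Decomp

variable {Q : Scheme.{u}} {ι : Type} [Finite ι] (T : ι → Scheme.{u}) (σ : ∀ k, T k ⟶ Q)
  [∀ k, IsOpenImmersion (σ k)]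
  (hdis : Pairwise fun k l => Disjoint (Set.range (σ k)) (Set.range (σ l)))
  (hcov : ∀ x : Q, ∃ k, x ∈ Set.range (σ k))

omit [Finite ι] in
include hdis in
theorem isZero_restr_extZero {k i : ι} (hki : k ≠ i) (H : EtCoh.Ab (T i)) :
    IsZero ((EtShriek.restrAlong (σ k)).obj ((EtShriek.extZero (σ i)).obj H)) := by
  refine IsZero.of_iso ?_ ((Groth.L27.ExtZero.pullRestr (σ k)).app _).symm
  refine (Groth.L27.EtSite.isZero_iff_stalks _).2 fun Ω _ _ v => ?_
  refine IsZero.of_iso ?_ ((Groth.L27.EtSite.stalkPullIso (σ k) v).app _)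
  refine Groth.L27.ExtZero.isZero_stalk_extZero_of_outside (σ i) (v ≫ σ k) ?_ H
  rintro _ ⟨z, rfl⟩ h
  exact Set.disjoint_left.1 (hdis hki) ⟨v z, rfl⟩ h

include hdis hcov in
theorem nonempty_decomp (G : EtCoh.Ab Q) :
    Nonempty ((⨁ fun k => (EtShriek.extZero (σ k)).obj ((EtShriek.restrAlong (σ k)).obj G)) ≅ G) := by
  classical
  let M := fun k => (EtShriek.extZero (σ k)).obj ((EtShriek.restrAlong (σ k)).obj G)
  let φ : (⨁ M) ⟶ G := biproduct.desc fun k => (EtShriek.extZeroAdj (σ k)).counit.app G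
  haveI := Fintype.ofFinite ι
  have hrestr : ∀ k, IsIso ((EtShriek.restrAlong (σ k)).map φ) := by
    intro k
    let R := EtShriek.restrAlong (σ k)
    haveI : R.Additive := inferInstance
    have hι : IsIso (R.map (biproduct.ι M k)) := by
      refine ⟨R.map (biproduct.π M k), ?_, ?_⟩
      · rw [← R.map_comp, biproduct.ι_π_self, R.map_id]
      · refine Eq.trans ?_ (R.map_id (⨁ M))
        refine Eq.trans ?_ (congrArg (fun m => R.map m) (biproduct.total (f := M)))
        refine Eq.trans ?_ (R.map_sum (fun j => biproduct.π M j ≫ biproduct.ι M j) Finset.univ).symm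
        refine (R.map_comp _ _).symm.trans ?_
        refine (Finset.sum_eq_single (f := fun j => R.map (biproduct.π M j ≫ biproduct.ι M j)) k (fun i _ hik => ?_) (fun h => absurd (Finset.mem_univ k) h)).symm
        rw [R.map_comp]
        exact (congrArg (fun m => m ≫ R.map (biproduct.ι M i))
          ((isZero_restr_extZero T σ hdis (Ne.symm hik) _).eq_of_tgt (R.map (biproduct.π M i)) 0)).trans zero_comp
    haveI : IsIso (R.map ((EtShriek.extZeroAdj (σ k)).counit.app G)) := by
      haveI := (Groth.L27.ExtZero.isIso_counit_of_mono (σ k)).2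
      haveI : IsIso ((EtShriek.extZeroAdj (σ k)).unit.app (R.obj G) ≫ R.map ((EtShriek.extZeroAdj (σ k)).counit.app G)) := by
        rw [(EtShriek.extZeroAdj (σ k)).right_triangle_components G]; exact IsIso.id _
      exact IsIso.of_isIso_comp_left ((EtShriek.extZeroAdj (σ k)).unit.app (R.obj G)) _
    haveI : IsIso (R.map (biproduct.ι M k) ≫ R.map φ) := by
      rw [← R.map_comp, biproduct.ι_desc]; infer_instance
    exact IsIso.of_isIso_comp_left (R.map (biproduct.ι M k)) _
  have key : ∀ (Ω : Type u) [Field Ω] [IsSepClosed Ω] (ξ : Spec (CommRingCat.of Ω) ⟶ Q),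
      IsIso ((EtCoh.stalk ξ).map φ) := by
    intro Ω _ _ ξ
    obtain ⟨k, hk⟩ := hcov (ξ default)
    have hr : Set.range ξ ⊆ Set.range (σ k) := by
      rintro - ⟨z, rfl⟩; rwa [Subsingleton.elim z default]
    obtain ⟨v, rfl⟩ : ∃ v, v ≫ σ k = ξ := ⟨IsOpenImmersion.lift (σ k) ξ hr, IsOpenImmersion.lift_fac (σ k) ξ hr⟩
    haveI := hrestr k
    haveI : IsIso ((EtCoh.pull (σ k)).map φ) := (NatIso.isIso_map_iff (Groth.L27.ExtZero.pullRestr (σ k)) φ).2 inferInstance
    exact (NatIso.isIso_map_iff (Groth.L27.EtSite.stalkPullIso (σ k) v) φ).1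
      (inferInstanceAs (IsIso ((EtCoh.stalk v).map ((EtCoh.pull (σ k)).map φ))))
  haveI : Mono φ := (Groth.L27.EtSite.mono_iff_stalks φ).2 fun Ω _ _ ξ =>
    haveI := key Ω ξ
    (ConcreteCategory.bijective_of_isIso ((EtCoh.stalk ξ).map φ)).1
  haveI : Epi φ := (Groth.L27.EtSite.epi_iff_stalks φ).2 fun Ω _ _ ξ =>
    haveI := key Ω ξ
    (ConcreteCategory.bijective_of_isIso ((EtCoh.stalk ξ).map φ)).2
  haveI : IsIso φ := isIso_of_mono_of_epi φ
  exact ⟨asIso φ⟩

end Decomp

end Groth.L28.ExtShriek
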