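import Groth.Agent.L28.ExtShriek.Compact
import Groth.Agent.L27.Colim.Torsion

/-!
Torsion étale sheaves are filtered colimits of constructible sheaves.
-/

set_option autoImplicit false
set_option linter.style.haveILetI false

universe u

open CategoryTheory CategoryTheory.Limits AlgebraicGeometry Opposite

set_option backward.isDefEq.respectTransparency.types false

namespace Groth.L28.ExtShriek

variable {X : Scheme.{u}}

theorem isTorsion_of_isConstructible [CompactSpace X] [QuasiSeparatedSpace X] {G : EtCoh.Ab X}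
    (hG : EtPBC.IsConstructible G) : EtCoh.IsTorsion G := by
  intro U s x
  obtain ⟨Ω, _, _, ξ', hξ'⟩ := Groth.L27.EtSite.exists_geometric_point x
  let q : Spec (CommRingCat.of Ω) ⟶ U.left := ξ'
  let ξ : Spec (CommRingCat.of Ω) ⟶ X := q ≫ U.hom
  haveI := finite_stalk hG ξ
  let Φ := Scheme.pointSmallEtale ξ
  let y : Φ.fiber.obj U := Over.homMk q rfl
  let a : (EtCoh.stalk ξ).obj G := Φ.toPresheafFiber U y G.obj s
  obtain ⟨n, hn, hna⟩ : ∃ n : ℕ, 0 < n ∧ n • Φ.toPresheafFiber U y G.obj s = 0 :=
    ⟨_, addOrderOf_pos a, addOrderOf_nsmul_eq_zero a⟩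
  obtain ⟨V, g, y', hy', he⟩ := (Φ.toPresheafFiber_eq_iff' _ _ (n • s) 0).1 (by
    rw [map_nsmul, map_zero]; exact hna)
  let q' : Spec (CommRingCat.of Ω) ⟶ V.left := y'.left
  refine ⟨V, g, ⟨q' default, ?_⟩, isOfFinAddOrder_iff_nsmul_eq_zero.2 ⟨n, hn, ?_⟩⟩
  · have e : q' ≫ g.left = q := congrArg (fun z : Φ.fiber.obj U => z.left) hy'
    exact (Scheme.Hom.comp_apply _ _ _).symm.trans ((congrArg (fun m => m default) e).trans hξ')
  · refine (map_nsmul (G.obj.map g.op).hom n s).symm.trans ?_
    exact he.trans (map_zero _)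

/-- a finite presentation of a constructible sheaf -/
structure Pres (X : Scheme.{u}) : Type (u + 1) where
  a : ℕ
  b : ℕ
  U : Fin a → X.Etale
  V : Fin b → X.Etale
  n : Fin a → ℕ
  m : Fin b → ℕ
  hU : ∀ i, 0 < n i ∧ IsAffine (U i).left
  hV : ∀ j, 0 < m j ∧ IsAffine (V j).left
  φ : (⨁ fun j => EtPBC.extZeroConst (V j) (ZMod (m j))) ⟶ (⨁ fun i => EtPBC.extZeroConst (U i) (ZMod (n i)))

/-- the presented sheaf -/
noncomputable def Pres.obj (P : Pres X) : EtCoh.Ab X := cokernel P.φ

theorem Pres.isConstructible_obj [CompactSpace X] [QuasiSeparatedSpace X] (P : Pres X) :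
    EtPBC.IsConstructible P.obj := by
  refine (Strata.isConstructible_kernel_cokernel P.φ (isConstructible_biproduct _ fun j => ?_)
    (isConstructible_biproduct _ fun i => ?_)).2
  · haveI : NeZero (P.m j) := ⟨(P.hV j).1.ne'⟩
    haveI := (P.hV j).2
    exact isConstructible_extZeroConst _ _
  · haveI : NeZero (P.n i) := ⟨(P.hU i).1.ne'⟩
    haveI := (P.hU i).2
    exact isConstructible_extZeroConst _ _

variable (F : EtCoh.Ab X)

/-- presented sheaves over `F` -/
abbrev PresOver : Type (u + 1) :=
  InducedCategory (Over F) (fun p : Σ P : Pres X, (P.obj ⟶ F) => Over.mk p.2)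

/-- the diagram of presented sheaves over `F` -/
noncomputable abbrev presDiag : PresOver F ⥤ EtCoh.Ab X :=
  inducedFunctor (fun p : Σ P : Pres X, (P.obj ⟶ F) => Over.mk p.2) ⋙ Over.forget F

/-- the tautological cocone -/
noncomputable abbrev presCocone : Cocone (presDiag F) where
  pt := F
  ι :=
    { app := fun j => j.2
      naturality := fun _ _ h => (Over.w h.hom).trans (Category.comp_id _).symm }

variable {F} [CompactSpace X] [QuasiSeparatedSpace X]

theorem exists_presOver {G : EtCoh.Ab X} (hG : EtPBC.IsConstructible G) (q : G ⟶ F) :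
    ∃ (j : PresOver F) (e : G ≅ (presDiag F).obj j), e.hom ≫ (presCocone F).ι.app j = q := by
  obtain ⟨a, b, U, V, n, m, hU, hV, φ, ⟨e⟩⟩ := exists_presentation hG
  exact ⟨⟨⟨a, b, U, V, n, m, hU, hV, φ⟩, e.inv ≫ q⟩, e, e.hom_inv_id_assoc q⟩

instance isFiltered_presOver : IsFiltered (PresOver F) where
  nonempty :=
    ⟨(exists_presOver (F := F) (isConstructible_biproduct (fun i : Fin 0 => i.elim0) fun i => i.elim0) 0).choose⟩
  cocone_objs j₁ j₂ := by
    let M : Bool → EtCoh.Ab X := fun b => bif b then (presDiag F).obj j₁ else (presDiag F).obj j₂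
    have hM : ∀ b, EtPBC.IsConstructible (M b)
      | true => j₁.1.isConstructible_obj
      | false => j₂.1.isConstructible_obj
    let q : ∀ b, M b ⟶ F
      | true => (presCocone F).ι.app j₁
      | false => (presCocone F).ι.app j₂
    obtain ⟨j, e, he⟩ := exists_presOver (isConstructible_biproduct M hM) (biproduct.desc q)
    refine ⟨j, InducedCategory.homMk (Over.homMk (biproduct.ι M true ≫ e.hom) ?_),
      InducedCategory.homMk (Over.homMk (biproduct.ι M false ≫ e.hom) ?_), trivial⟩
    · exact (Category.assoc _ _ _).trans ((congrArg (biproduct.ι M true ≫ ·) he).trans (biproduct.ι_desc q true))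
    · exact (Category.assoc _ _ _).trans ((congrArg (biproduct.ι M false ≫ ·) he).trans (biproduct.ι_desc q false))
  cocone_maps := fun j₁ j₂ f g => by
    let d : (presDiag F).obj j₁ ⟶ (presDiag F).obj j₂ := (presDiag F).map f - (presDiag F).map g
    have hd : d ≫ (presCocone F).ι.app j₂ = 0 := by
      rw [Preadditive.sub_comp, (presCocone F).w, (presCocone F).w, sub_self]
    obtain ⟨j, e, he⟩ := exists_presOver (Strata.isConstructible_kernel_cokernel d j₁.1.isConstructible_obj
      j₂.1.isConstructible_obj).2 (cokernel.desc d _ hd)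
    refine ⟨j, InducedCategory.homMk (Over.homMk (cokernel.π d ≫ e.hom) ?_), ?_⟩
    · exact (Category.assoc _ _ _).trans ((congrArg (cokernel.π d ≫ ·) he).trans (cokernel.π_desc _ _ _))
    · refine InducedCategory.hom_ext (Over.OverMorphism.ext ?_)
      have := cokernel.condition_assoc d e.hom
      rw [zero_comp, Preadditive.sub_comp, sub_eq_zero] at this
      exact this

omit [CompactSpace X] [QuasiSeparatedSpace X] in
theorem exists_atom_section (hF : EtCoh.IsTorsion F) (U : X.Etale) (s : EtCoh.sect F U) (x : U.left) :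
    ∃ (V : X.Etale) (g : V ⟶ U) (v : V.left) (_ : IsAffine V.left) (n : ℕ), 0 < n ∧ g.left.base v = x ∧
      n • F.obj.map g.op s = 0 := by
  obtain ⟨V, g, ⟨v, hv⟩, hfin⟩ := hF U s x
  obtain ⟨n, hn, hns⟩ := hfin.exists_nsmul_eq_zero
  obtain ⟨Ω, _, _, ξ', hξ'⟩ := Groth.L27.EtSite.exists_geometric_point v
  let q : Spec (CommRingCat.of Ω) ⟶ V.left := ξ'
  let y : (Scheme.pointSmallEtale (q ≫ V.hom)).fiber.obj V := Over.homMk q rfl
  obtain ⟨V', g', y', hV', hy'⟩ := exists_affine_refine V y
  let q' : Spec (CommRingCat.of Ω) ⟶ V'.left := y'.left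
  refine ⟨V', g' ≫ g, q' default, hV', n, hn, ?_, ?_⟩
  · have e : q' ≫ g'.left = q := congrArg (fun z : (Scheme.pointSmallEtale (q ≫ V.hom)).fiber.obj V => z.left) hy'
    refine (Scheme.Hom.comp_apply g'.left g.left _).trans ?_
    refine (congrArg g.left.base ?_).trans hv
    exact (Scheme.Hom.comp_apply _ _ _).symm.trans ((congrArg (fun m => m default) e).trans hξ')
  · rw [op_comp, F.obj.map_comp, ConcreteCategory.comp_apply, ← map_nsmul, hns, map_zero]

theorem isConstructible_atom (V : X.Etale) [IsAffine V.left] {n : ℕ} (hn : 0 < n) :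
    EtPBC.IsConstructible (EtPBC.extZeroConst V (ZMod n)) :=
  haveI : NeZero n := ⟨hn.ne'⟩
  isConstructible_extZeroConst V (ZMod n)

omit [CompactSpace X] [QuasiSeparatedSpace X] in
theorem exists_local_stage {C : Type (u + 1)} [SmallCategory C] [IsFiltered C] (D : C ⥤ EtCoh.Ab X) (U : X.Etale)
    (x : (colimit D).obj.obj (op U)) :
    ∃ R ∈ X.smallEtaleTopology U, ∀ (V : X.Etale) (g : V ⟶ U), R.arrows g →
      ∃ (j : C) (y : (D.obj j).obj.obj (op V)), (colimit.ι D j).hom.app (op V) y = (colimit D).obj.map g.op x := by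
  let J := X.smallEtaleTopology
  let P := colimit.cocone (D ⋙ sheafToPresheaf J AddCommGrpCat.{u + 1})
  let e := (colimit.isColimit D).coconePointUniqueUpToIso (Sheaf.isColimitSheafifyCocone P (colimit.isColimit _))
  let θ : CategoryTheory.sheafify J P.pt ⟶ (colimit D).obj := e.inv.hom
  haveI : IsIso θ := inferInstanceAs (IsIso ((sheafToPresheaf J _).map e.inv))
  let τ : P.pt ⟶ (colimit D).obj := toSheafify J P.pt ≫ θ
  haveI : Presheaf.IsLocallySurjective J θ := Presheaf.isLocallySurjective_of_surjective J θ fun V =>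
    (AddCommGrpCat.epi_iff_surjective (θ.app V)).1 inferInstance
  haveI : Presheaf.IsLocallySurjective J τ := Presheaf.isLocallySurjective_comp J _ _
  have hτ : ∀ j, P.ι.app j ≫ τ = (colimit.ι D j).hom := fun j => by
    rw [← colimit.cocone_ι, ← (colimit.isColimit D).comp_coconePointUniqueUpToIso_inv
      (Sheaf.isColimitSheafifyCocone P (colimit.isColimit _)) j]
    exact (Category.assoc _ _ _).symm.trans (congrArg (· ≫ θ) (Sheaf.sheafifyCocone_ι_app_val P j).symm)
  refine ⟨_, Presheaf.imageSieve_mem J τ x, fun V g ⟨z, hz⟩ => ?_⟩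
  obtain ⟨j, y, hy⟩ := Concrete.isColimit_exists_rep _
    (isColimitOfPreserves ((evaluation (X.Etale)ᵒᵖ AddCommGrpCat.{u + 1}).obj (op V)) (colimit.isColimit _)) z
  exact ⟨j, y, (congr($(hτ j).app (op V) y)).symm.trans ((congrArg (τ.app (op V)) hy).trans hz)⟩

theorem isIso_desc_presCocone (hF : EtCoh.IsTorsion F) : IsIso (colimit.desc (presDiag F) (presCocone F)) := by
  let d := colimit.desc (presDiag F) (presCocone F)
  have hι : ∀ (j : PresOver F) (V : X.Etale) (y : ((presDiag F).obj j).obj.obj (op V)),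
      d.hom.app (op V) ((colimit.ι (presDiag F) j).hom.app (op V) y) = ((presCocone F).ι.app j).hom.app (op V) y :=
    fun j V y => congr($(colimit.ι_desc (presCocone F) j).hom.app (op V) y)
  have h1 : Sheaf.IsLocallyInjective d := by
    refine ⟨fun {U} x y h => ?_⟩
    refine X.smallEtaleTopology.superset_covering (fun V g hg => ?_) (X.smallEtaleTopology.top_mem U.unop)
    show (colimit (presDiag F)).obj.map g.op x = (colimit (presDiag F)).obj.map g.op y
    refine congrArg _ (sub_eq_zero.1 ?_)
    refine Groth.L27.EtSite.ext_of_locally _ fun w => ?_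
    obtain ⟨R, hR, hR'⟩ := exists_local_stage (presDiag F) U.unop (x - y)
    obtain ⟨V₀, g₀, v₀, hg₀, hv₀⟩ := (Groth.L27.EtSite.mem_topology_iff R).1 hR w
    obtain ⟨j, z, hz⟩ := hR' V₀ g₀ hg₀
    obtain ⟨V₁, g₁, v₁, hV₁, n, hn, hv₁, hnz⟩ :=
      exists_atom_section (isTorsion_of_isConstructible j.1.isConstructible_obj) V₀ z v₀
    refine ⟨V₁, g₁ ≫ g₀, v₁, ?_, ?_⟩
    · exact (Scheme.Hom.comp_apply g₁.left g₀.left _).trans ((congrArg g₀.left.base hv₁).trans hv₀)
    obtain ⟨ψ, hψ⟩ := exists_hom_of_section V₁ n (((presDiag F).obj j).obj.map g₁.op z) hnz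
    have hψ0 : ψ ≫ (presCocone F).ι.app j = 0 := ext_gen (by
      show ((presCocone F).ι.app j).hom.app (op V₁) (ψ.hom.app (op V₁) (gen V₁ n)) = 0
      refine (congrArg _ hψ).trans ?_
      refine (NatTrans.naturality_apply ((presCocone F).ι.app j).hom g₁.op z).trans ?_
      refine (congrArg (F.obj.map g₁.op) ?_).trans (map_zero _)
      refine (hι j V₀ z).symm.trans ?_
      refine (congrArg (d.hom.app (op V₀)) hz).trans ?_
      refine (NatTrans.naturality_apply d.hom g₀.op (x - y)).trans ?_
      rw [map_sub (d.hom.app (op U.unop)).hom x y]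
      exact (congrArg (F.obj.map g₀.op) (sub_eq_zero.2 h)).trans (map_zero _))
    obtain ⟨j', e, he⟩ := exists_presOver (Strata.isConstructible_kernel_cokernel ψ (isConstructible_atom V₁ hn)
      j.1.isConstructible_obj).2 (cokernel.desc ψ _ hψ0)
    let a : j ⟶ j' := InducedCategory.homMk (Over.homMk (cokernel.π ψ ≫ e.hom)
      ((Category.assoc _ _ _).trans ((congrArg (cokernel.π ψ ≫ ·) he).trans (cokernel.π_desc _ _ _))))
    have e0 : ψ ≫ colimit.ι (presDiag F) j = 0 := by
      rw [← colimit.w (presDiag F) a, show (presDiag F).map a = cokernel.π ψ ≫ e.hom from rfl,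
        ← Category.assoc, cokernel.condition_assoc, zero_comp, zero_comp]
    rw [op_comp, (colimit (presDiag F)).obj.map_comp, ConcreteCategory.comp_apply, ConcreteCategory.comp_apply,
      map_zero, map_zero, ← hz, ← NatTrans.naturality_apply (colimit.ι (presDiag F) j).hom g₁.op z, ← hψ]
    exact congrArg (fun m => m.hom.app (op V₁) (gen V₁ n)) e0
  have h2 : Sheaf.IsLocallySurjective d := by
    refine ⟨fun {U} s => (Groth.L27.EtSite.mem_topology_iff _).2 fun w => ?_⟩
    obtain ⟨V, g, v, hV, n, hn, hv, hns⟩ := exists_atom_section hF U s w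
    obtain ⟨φ, hφ⟩ := exists_hom_of_section V n (F.obj.map g.op s) hns
    obtain ⟨j, e, he⟩ := exists_presOver (isConstructible_atom V hn) φ
    refine ⟨V, g, v, ⟨(colimit.ι (presDiag F) j).hom.app (op V) (e.hom.hom.app (op V) (gen V n)),
      (hι j V _).trans ?_⟩, hv⟩
    exact (congrArg (fun m => m.hom.app (op V) (gen V n)) he).trans hφ
  exact (Sheaf.isLocallyBijective_iff_isIso d).1 ⟨h1, h2⟩

theorem isColimit_presCocone (hF : EtCoh.IsTorsion F) : Nonempty (IsColimit (presCocone F)) := by
  haveI : IsIso ((colimit.isColimit (presDiag F)).desc (presCocone F)) := isIso_desc_presCocone hF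
  exact ⟨IsColimit.ofPointIso (colimit.isColimit (presDiag F))⟩

omit [CompactSpace X] [QuasiSeparatedSpace X] in
theorem isConstructible_of_retract {F G : EtCoh.Ab X} (hG : EtPBC.IsConstructible G) (i : F ⟶ G) (p : G ⟶ F)
    (h : i ≫ p = 𝟙 F) : EtPBC.IsConstructible F := by
  refine isConstructible_of_iso ?_ (Strata.isConstructible_kernel_cokernel (𝟙 G - p ≫ i) hG hG).1
  exact
    { hom := kernel.ι _ ≫ p
      inv := kernel.lift _ i (by rw [Preadditive.comp_sub, Category.comp_id, reassoc_of% h, sub_self])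
      hom_inv_id := by
        refine equalizer.hom_ext ?_
        rw [Category.assoc, Category.assoc, kernel.lift_ι, Category.id_comp]
        have := kernel.condition (𝟙 G - p ≫ i)
        rw [Preadditive.comp_sub, Category.comp_id, sub_eq_zero] at this
        exact this.symm
      inv_hom_id := by rw [kernel.lift_ι_assoc, h] }

end Groth.L28.ExtShriek
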