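import Groth.Agent.L28.ExtShriek.Constr

/-!
Constructible sheaves killed by `n` are cokernels of maps between sums of `j_! ℤ/n`.
-/

set_option autoImplicit false
set_option linter.style.haveILetI false

universe u

open CategoryTheory CategoryTheory.Limits AlgebraicGeometry Opposite

set_option backward.isDefEq.respectTransparency.types false

namespace Groth.L28.ExtShriek

variable {X : Scheme.{u}}

theorem killed_of_nsmul_id {F : EtCoh.Ab X} {n : ℕ} (h : n • 𝟙 F = 0) : EtCoh.KilledBy n F := by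
  intro V s
  let ev : (F ⟶ F) →+ EtCoh.sect F V :=
    { toFun := fun m => m.hom.app (op V) s, map_zero' := rfl, map_add' := fun _ _ => rfl }
  have := congrArg (fun m => ev m) h
  exact ((map_nsmul ev n (𝟙 F)).symm.trans this).trans (map_zero ev)

theorem nsmul_id_extZeroConst (V : X.Etale) (n : ℕ) : n • 𝟙 (EtPBC.extZeroConst V (ZMod n)) = 0 := by
  let adj := constExtAdj V
  let M := AddCommGrpCat.of (ULift.{u + 1} (ZMod n))
  haveI : (X.smallEtaleTopology.overPullback AddCommGrpCat.{u + 1} V ⋙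
    (sheafSections (X.smallEtaleTopology.over V) AddCommGrpCat.{u + 1}).obj (op (Over.mk (𝟙 V)))).Additive := ⟨rfl⟩
  have hM : n • 𝟙 M = 0 := AddCommGrpCat.ext fun z => by
    show n • z = 0
    exact ULift.ext _ _ (by simp)
  refine (adj.homEquiv M _).injective ?_
  rw [adj.homEquiv_unit, adj.homEquiv_unit]
  simp only [Functor.map_zero, comp_zero]
  refine (congrArg (fun m => adj.unit.app M ≫ m) (Functor.map_nsmul (F := X.smallEtaleTopology.overPullback AddCommGrpCat.{u + 1} V ⋙ (sheafSections (X.smallEtaleTopology.over V) AddCommGrpCat.{u + 1}).obj (op (Over.mk (𝟙 V)))))).trans ?_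
  refine (Preadditive.comp_nsmul _ _ _).trans ?_
  refine (congrArg (fun m => n • m) ((congrArg (fun m => adj.unit.app M ≫ m) (CategoryTheory.Functor.map_id (X.smallEtaleTopology.overPullback AddCommGrpCat.{u + 1} V ⋙ (sheafSections (X.smallEtaleTopology.over V) AddCommGrpCat.{u + 1}).obj (op (Over.mk (𝟙 V)))) _)).trans
    ((Category.comp_id _).trans (Category.id_comp _).symm))).trans ?_
  exact (Preadditive.nsmul_comp _ _ _).symm.trans ((congrArg (· ≫ adj.unit.app M) hM).trans zero_comp)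

theorem killed_biproduct {a : ℕ} (U : Fin a → X.Etale) (n : ℕ) :
    EtCoh.KilledBy n (⨁ fun i => EtPBC.extZeroConst (U i) (ZMod n)) :=
  killed_of_nsmul_id (biproduct.hom_ext' _ _ fun i => by
    rw [Preadditive.comp_nsmul, Category.comp_id, comp_zero,
      ← Category.id_comp (biproduct.ι (fun i => EtPBC.extZeroConst (U i) (ZMod n)) i), ← Preadditive.nsmul_comp,
      nsmul_id_extZeroConst, zero_comp])

theorem exists_epi_killed [CompactSpace X] [QuasiSeparatedSpace X] {F : EtCoh.Ab X} (hF : EtPBC.IsConstructible F)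
    {n : ℕ} (hn : 0 < n) (hFn : EtCoh.KilledBy n F) :
    ∃ (a : ℕ) (U : Fin a → X.Etale) (_ : ∀ i, IsAffine (U i).left),
      ∃ φ : (⨁ fun i => EtPBC.extZeroConst (U i) (ZMod n)) ⟶ F, Epi φ := by
  obtain ⟨a, U, m, hU, φ, hφ⟩ := exists_epi_gen hF (fun k => k = n) (fun k hk => hk ▸ hn) fun Ω _ _ ξ b => by
    let Φ := Scheme.pointSmallEtale ξ
    obtain ⟨V₀, y₀, s₀, hs₀⟩ := Φ.toPresheafFiber_jointly_surjective (P := F.obj) b
    obtain ⟨V, g, y, hV, hy⟩ := exists_affine_refine V₀ y₀
    obtain ⟨ψ, t, ht⟩ := exists_map_of_section V n (F.obj.map g.op s₀) (hFn _ _)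
    refine ⟨V, n, rfl, hV, ψ, Φ.toPresheafFiber V y (EtPBC.extZeroConst V (ZMod n)).obj t, ?_⟩
    refine (GrothendieckTopology.Point.toPresheafFiber_naturality_apply Φ ψ.hom V y t).trans ?_
    refine (congrArg (fun r => Φ.toPresheafFiber V y F.obj r) ht).trans ?_
    rw [GrothendieckTopology.Point.toPresheafFiber_w_apply, hy, hs₀]
  obtain rfl : m = fun _ => n := funext fun i => (hU i).1
  exact ⟨a, U, fun i => (hU i).2, φ, hφ⟩

theorem exists_presentation_killed [CompactSpace X] [QuasiSeparatedSpace X] {F : EtCoh.Ab X}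
    (hF : EtPBC.IsConstructible F) {n : ℕ} (hn : 0 < n) (hFn : EtCoh.KilledBy n F) :
    ∃ (a b : ℕ) (V : Fin a → X.Etale) (U : Fin b → X.Etale) (_ : ∀ j, IsAffine (V j).left)
      (_ : ∀ i, IsAffine (U i).left)
      (φ : (⨁ fun j => EtPBC.extZeroConst (V j) (ZMod n)) ⟶ ⨁ fun i => EtPBC.extZeroConst (U i) (ZMod n)),
      Nonempty (F ≅ cokernel φ) := by
  haveI : NeZero n := ⟨hn.ne'⟩
  obtain ⟨b, U, hU, p, hp⟩ := exists_epi_killed hF hn hFn
  have hK : EtPBC.IsConstructible (kernel p) := by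
    refine (Strata.isConstructible_kernel_cokernel p (isConstructible_biproduct _ fun i => ?_) hF).1
    haveI := hU i
    exact isConstructible_extZeroConst _ _
  obtain ⟨a, V, hV, q, hq⟩ := exists_epi_killed hK hn (killed_of_mono (kernel.ι p) (killed_biproduct U n))
  refine ⟨a, b, V, U, hV, hU, q ≫ kernel.ι p, ⟨?_⟩⟩
  exact (Abelian.epiIsCokernelOfKernel _ (kernelIsKernel p)).coconePointUniqueUpToIso (cokernelIsCokernel _) ≪≫
    (cokernelEpiComp q (kernel.ι p)).symm

end Groth.L28.ExtShriek
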