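import Groth.Agent.L28.Strata.Et
import Groth.Agent.L28.Noeth.Strat
import Groth.Agent.L18.KerReduced

/-!
Constructible sheaves on locally Noetherian schemes: the criterion on closures of points.
-/

set_option autoImplicit false
set_option linter.style.haveILetI false

universe u

open CategoryTheory CategoryTheory.Limits AlgebraicGeometry Opposite TopologicalSpace Topology

set_option backward.isDefEq.respectTransparency.types false

namespace Groth.L28.ExtShriek

variable {X : Scheme.{u}}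

theorem exists_open_closure_of_isConstructible (F : EtCoh.Ab X) (hF : EtPBC.IsConstructible F) (x : X) :
    ∃ (V : X.Opens) (T : Scheme.{u}) (g : T ⟶ X), IsImmersion g ∧ x ∈ V ∧
      Set.range g.base = (V : Set X) ∩ closure {x} ∧
      EtCoh.IsFiniteLocallyConstant ((EtCoh.pull g).obj F) := by
  obtain ⟨U, hU, hxU, -⟩ := Strata.exists_affine (X := X) (x := x) (Set.mem_univ x) isOpen_univ
  obtain ⟨n, T, g, h1, -, -, h4, h5⟩ := (Strata.isConstructible_iff F).1 hF U hU
  obtain ⟨i, t, ht⟩ := Set.mem_iUnion.1 (h4.symm ▸ Set.mem_univ (⟨x, hxU⟩ : U) :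
    (⟨x, hxU⟩ : U) ∈ ⋃ i, Set.range (g i))
  let k : T i ⟶ X := g i ≫ U.ι
  haveI : IsImmersion (g i) := h1 i
  haveI : IsImmersion k := inferInstanceAs (IsImmersion (g i ≫ U.ι))
  obtain ⟨O, C, hO, hC, e⟩ := k.isLocallyClosed_range
  have hx : x ∈ O ∩ C := e ▸ ⟨t, (Scheme.Hom.comp_apply (g i) U.ι t).trans (by rw [ht]; rfl)⟩
  obtain ⟨T₀, i₀, hi₀, hr₀⟩ := Strata.exists_immersion (⟨O, hO⟩ : X.Opens) ⟨closure {x}, isClosed_closure⟩
  refine ⟨⟨O, hO⟩, pullback k i₀, pullback.snd k i₀ ≫ i₀, inferInstance, hx.1, ?_, ?_⟩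
  · rw [Scheme.Hom.comp_base, TopCat.coe_comp, Set.range_comp, Scheme.Pullback.range_snd,
      Set.image_preimage_eq_inter_range, hr₀, e]
    refine Set.inter_eq_right.2 ?_
    intro y hy
    exact ⟨hy.1, closure_minimal (Set.singleton_subset_iff.2 hx.2) hC hy.2⟩
  · show Strata.lcPred F _
    rw [← pullback.condition]
    exact Strata.stable_lcPred F _ k (h5 i)

/-- a predicate checked after restriction to reduced schemes -/
def redPred (P : Strata.SPred X) : Strata.SPred X := fun T g =>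
  ∀ (T' : Scheme.{u}) (h : T' ⟶ T), IsReduced T' → P (h ≫ g)

theorem stable_redPred (P : Strata.SPred X) : Strata.Stable (redPred P) := fun T T' h g hg T'' h' hr => by
  rw [← Category.assoc]
  exact hg T'' (h' ≫ h) hr

theorem strat_of_redPred {P : Strata.SPred X} (h : Strata.Strat X (redPred P)) : Strata.Strat X P := by
  obtain ⟨n, T, g, h1, h2, h3, h4, h5⟩ := h
  let I i := Scheme.IdealSheafData.vanishingIdeal (⊤ : Closeds (T i))
  have hr : ∀ i, Set.range ((I i).subschemeι ≫ g i) = Set.range (g i) := fun i => by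
    rw [Scheme.Hom.comp_base, TopCat.coe_comp, Set.range_comp, Scheme.IdealSheafData.range_subschemeι,
      Scheme.IdealSheafData.coe_support_vanishingIdeal]
    simp
  refine ⟨n, fun i => (I i).subscheme, fun i => (I i).subschemeι ≫ g i, fun i => haveI := h1 i; inferInstance,
    fun i => by rw [hr]; exact h2 i, fun i j hij => ?_, ?_, fun i => ?_⟩
  · show Disjoint (Set.range _) (Set.range _)
    rw [hr, hr]; exact h3 hij
  · simp only [hr]; exact h4
  · exact h5 i _ (I i).subschemeι (Groth.L18.isReduced_vanishingIdeal_subscheme _)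

theorem exists_factor_immersion {T' T : Scheme.{u}} (g : T ⟶ X) [IsImmersion g] (k : T' ⟶ X) [IsReduced T']
    (h : Set.range k ⊆ Set.range g) : ∃ l : T' ⟶ T, l ≫ g = k := by
  have hs : Surjective (pullback.snd g k) := ⟨Set.range_eq_univ.1 (Set.eq_univ_of_forall fun y => by
    rw [Scheme.Pullback.range_snd]
    exact h ⟨y, rfl⟩)⟩
  haveI := hs
  haveI : IsClosedImmersion (pullback.snd g k) :=
    IsClosedImmersion.of_isPreimmersion (pullback.snd g k) (by
      rw [Set.range_eq_univ.2 hs.surj]; exact isClosed_univ)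
  haveI := isIso_of_isClosedImmersion_of_surjective (pullback.snd g k)
  exact ⟨inv (pullback.snd g k) ≫ pullback.fst g k, by rw [Category.assoc, pullback.condition, IsIso.inv_hom_id_assoc]⟩

theorem isConstructible_of_open_closures [IsLocallyNoetherian X] (F : EtCoh.Ab X)
    (h : ∀ x : X, ∃ (V : X.Opens) (T : Scheme.{u}) (g : T ⟶ X), IsImmersion g ∧ x ∈ V ∧
      Set.range g.base = (V : Set X) ∩ closure {x} ∧
      EtCoh.IsFiniteLocallyConstant ((EtCoh.pull g).obj F)) :
    EtPBC.IsConstructible F := by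
  refine (Strata.isConstructible_iff F).2 fun U hU => ?_
  haveI : IsAffine U.toScheme := hU
  haveI : AlgebraicGeometry.IsNoetherian U.toScheme := {}
  refine strat_of_redPred (Noeth.strat_of_generic (stable_redPred _) fun T g _ _ _ => ?_)
  obtain ⟨V, T₀, g₀, _, hxV, hr, hlc⟩ := h ((g ≫ U.ι) (genericPoint T))
  refine ⟨(g ≫ U.ι) ⁻¹ᵁ V, hxV, fun T' k _ => ?_⟩
  have hsub : Set.range (k ≫ ((g ≫ U.ι) ⁻¹ᵁ V).ι ≫ g ≫ U.ι) ⊆ Set.range g₀ := by
    rintro _ ⟨y, rfl⟩
    rw [hr, Scheme.Hom.comp_apply, Scheme.Hom.comp_apply]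
    exact ⟨(k y).2, ((genericPoint_spec T).specializes (Set.mem_univ _)).map (g ≫ U.ι).continuous |>.mem_closure⟩
  obtain ⟨l, hl⟩ := exists_factor_immersion g₀ _ hsub
  show Strata.lcPred F ((k ≫ ((g ≫ U.ι) ⁻¹ᵁ V).ι ≫ g) ≫ U.ι)
  rw [Category.assoc, Category.assoc, ← hl]
  exact Strata.stable_lcPred F l g₀ hlc

end Groth.L28.ExtShriek
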