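import Groth.Agent.L28.ExtShriek.Pres
import Groth.Agent.L28.ExtShriek.Split
import Mathlib.AlgebraicGeometry.Morphisms.QuasiSeparated

/-!
Extension by zero along quasi-compact quasi-separated étale morphisms preserves constructibility; killed presentations.
-/

set_option autoImplicit false
set_option linter.style.haveILetI false

universe u

open CategoryTheory CategoryTheory.Limits AlgebraicGeometry Opposite

set_option backward.isDefEq.respectTransparency.types false

namespace Groth.L28.ExtShriek

theorem isConstructible_extZero_qcqs {U X : Scheme.{u}} [CompactSpace X] [QuasiSeparatedSpace X] [CompactSpace U]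
    [QuasiSeparatedSpace U] (f : U ⟶ X) [AlgebraicGeometry.Etale f] [EtShriek.JCont f] {F : EtCoh.Ab U}
    (hF : EtPBC.IsConstructible F) : EtPBC.IsConstructible ((EtShriek.extZero f).obj F) := by
  obtain ⟨a, b, A, B, n, m, hA, hB, φ, ⟨e⟩⟩ := exists_presentation hF
  have key : ∀ (k : ℕ) (V : Fin k → U.Etale) (d : Fin k → ℕ), (∀ i, 0 < d i ∧ IsAffine (V i).left) →
      EtPBC.IsConstructible ((EtShriek.extZero f).obj (⨁ fun i => EtPBC.extZeroConst (V i) (ZMod (d i)))) := by
    intro k V d hV
    refine isConstructible_of_iso ((EtShriek.extZero f).mapBiproduct _).symm (isConstructible_biproduct _ fun i => ?_)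
    haveI : AlgebraicGeometry.Etale (X := (V i).left) (Y := U) (V i).hom := (V i).prop
    haveI : NeZero (d i) := ⟨(hV i).1.ne'⟩
    haveI := (hV i).2
    haveI := Groth.L27.ExtZero.jCont (U := (V i).left) (X := U) (V i).hom
    haveI := Groth.L27.ExtZero.jCont (U := (V i).left) (X := X) ((V i).hom ≫ f)
    exact isConstructible_of_iso ((extZeroComp (X := (V i).left) (Y := U) (V i).hom f).app _ ).symm
      (isConstructible_extZero (U := (V i).left) (X := X) ((V i).hom ≫ f) _ (isFLC_const (V i).left (ZMod (d i)))) |>
        isConstructible_of_iso ((EtShriek.extZero f).mapIso (extZeroConstIso (V i) (ZMod (d i))))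
  refine isConstructible_of_iso (PreservesCokernel.iso (EtShriek.extZero f) φ).symm ?_ |>
    isConstructible_of_iso ((EtShriek.extZero f).mapIso e).symm
  exact (Strata.isConstructible_kernel_cokernel _ (key b B m hB) (key a A n hA)).2

theorem isConstructible_pull {X Y : Scheme.{u}} (f : X ⟶ Y) {F : EtCoh.Ab Y} (hF : EtPBC.IsConstructible F) :
    EtPBC.IsConstructible ((EtCoh.pull f).obj F) := by
  rw [Strata.isConstructible_iff] at hF ⊢
  exact (hF.pullback (Strata.stable_lcPred F) f).mono fun T g hg => (Strata.lcPred_comp F f g).2 hg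

theorem isConstructible_extZero' {U X : Scheme.{u}} (f : U ⟶ X) [AlgebraicGeometry.Etale f] [QuasiCompact f]
    [QuasiSeparated f] [EtShriek.JCont f] {F : EtCoh.Ab U} (hF : EtPBC.IsConstructible F) :
    EtPBC.IsConstructible ((EtShriek.extZero f).obj F) := by
  rw [Strata.isConstructible_iff]
  intro W hW
  haveI : IsAffine W.toScheme := hW
  haveI : CompactSpace ↥(pullback f W.ι) := QuasiCompact.compactSpace_of_compactSpace (pullback.snd f W.ι)
  haveI : QuasiSeparatedSpace ↥(pullback f W.ι) := quasiSeparatedSpace_of_quasiSeparated (pullback.snd f W.ι)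
  haveI := Groth.L27.ExtZero.jCont (pullback.snd f W.ι)
  have h := isConstructible_of_iso ((extZeroPullIso (IsPullback.of_hasPullback f W.ι)).app F).symm
    (isConstructible_extZero_qcqs (pullback.snd f W.ι) (isConstructible_pull (pullback.fst f W.ι) hF))
  rw [Strata.isConstructible_iff] at h
  exact ((Strata.loc_iff_strat (Strata.stable_lcPred _)).1 h).mono fun T g hg =>
    (Strata.lcPred_comp _ W.ι g).1 hg

theorem killed_of_mono {X : Scheme.{u}} {F G : EtCoh.Ab X} (φ : F ⟶ G) [Mono φ] {n : ℕ} (h : EtCoh.KilledBy n G) :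
    EtCoh.KilledBy n F := by
  intro U s
  haveI : Mono φ.hom := inferInstanceAs (Mono ((sheafToPresheaf _ _).map φ))
  have hinj : Function.Injective (φ.hom.app (op U)) :=
    (AddCommGrpCat.mono_iff_injective _).1 ((NatTrans.mono_iff_mono_app φ.hom).1 inferInstance (op U))
  refine hinj ?_
  rw [map_nsmul, map_zero]
  exact h U _

end Groth.L28.ExtShriek
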