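import Groth.Agent.L28.ExtShriek.IndConstr
import Groth.Agent.L28.ExtShriek.Constr
import Groth.Agent.L27.EtSite.Pull

/-!
Constructibility descends along surjective morphisms.
-/

set_option autoImplicit false
set_option linter.style.haveILetI false

universe u

open CategoryTheory CategoryTheory.Limits AlgebraicGeometry Opposite

set_option backward.isDefEq.respectTransparency.types false

namespace Groth.L28.ExtShriek

/-- an exact functor reflecting isomorphisms detects that a map out of an image is bijective -/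
theorem isIso_image_of_functor {A B : Type*} [Category A] [Abelian A] [Category B] [Abelian B] (P : A ⥤ B)
    [P.Additive] [PreservesFiniteLimits P] [PreservesFiniteColimits P]
    (hrefl : ∀ {M N : A} (g : M ⟶ N), IsIso (P.map g) → IsIso g)
    {G H F : A} (φ : G ⟶ H) (p : G ⟶ F) (q : H ⟶ F) (m : P.obj F ⟶ P.obj H)
    (hm : m ≫ P.map q = 𝟙 _) (hφm : P.map φ = P.map p ≫ m) [Epi (P.map p)] :
    IsIso (kernel.ι (cokernel.π φ) ≫ q) := by
  let ι := kernel.ι (cokernel.π φ)
  let e : G ⟶ kernel (cokernel.π φ) := kernel.lift _ φ (cokernel.condition φ)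
  haveI : Epi e := inferInstanceAs (Epi (Abelian.factorThruImage φ))
  have hmπ : m ≫ P.map (cokernel.π φ) = 0 := by
    rw [← cancel_epi (P.map p), ← Category.assoc, ← hφm, ← P.map_comp, cokernel.condition, Functor.map_zero, comp_zero]
  let l : P.obj F ⟶ P.obj (kernel (cokernel.π φ)) :=
    kernel.lift _ m hmπ ≫ (PreservesKernel.iso P (cokernel.π φ)).inv
  have hl : l ≫ P.map ι = m := by
    simp only [l, ι, Category.assoc, PreservesKernel.iso_inv_ι, kernel.lift_ι]
  haveI : Mono (P.map ι) := inferInstance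
  have he : P.map e = P.map p ≫ l := by
    rw [← cancel_mono (P.map ι), Category.assoc, hl, ← P.map_comp, kernel.lift_ι, hφm]
  haveI : Epi (P.map e) := inferInstance
  haveI : Epi (P.map p ≫ l) := he ▸ inferInstance
  haveI : Epi l := epi_of_epi (P.map p) l
  have hlγ : l ≫ P.map (ι ≫ q) = 𝟙 _ := by rw [P.map_comp, ← Category.assoc, hl, hm]
  haveI : IsSplitMono l := IsSplitMono.mk' ⟨_, hlγ⟩
  haveI : IsIso l := isIso_of_epi_of_isSplitMono l
  refine hrefl _ ?_
  rw [show P.map (ι ≫ q) = inv l from (IsIso.inv_eq_of_hom_inv_id hlγ).symm]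
  infer_instance

variable {X Y : Scheme.{u}}

theorem isIso_of_isIso_pull (f : X ⟶ Y) [Surjective f] {M N : EtCoh.Ab Y} (g : M ⟶ N)
    (h : IsIso ((EtCoh.pull f).map g)) : IsIso g := by
  have hb : ∀ y : Y, ∃ (Ω : Type u) (_ : Field Ω) (_ : IsSepClosed Ω) (ξ : Spec (CommRingCat.of Ω) ⟶ Y),
      ξ.base default = y ∧ Function.Bijective ((EtCoh.stalk ξ).map g) := by
    intro y
    obtain ⟨x, rfl⟩ := f.surjective y
    obtain ⟨Ω, _, _, ξ, hξ⟩ := Groth.L27.EtSite.exists_geometric_point x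
    refine ⟨Ω, inferInstance, inferInstance, ξ ≫ f, by rw [← hξ]; rfl, ?_⟩
    have h1 : IsIso ((EtCoh.pull f ⋙ EtCoh.stalk ξ).map g) :=
      @Functor.map_isIso _ _ _ _ _ _ (EtCoh.stalk ξ) _ h
    exact (ConcreteCategory.isIso_iff_bijective _).1 (((MorphismProperty.isomorphisms _).arrow_mk_iso_iff
      (((Functor.mapArrowFunctor _ _).mapIso (Groth.L27.EtSite.stalkPullIso f ξ)).app (Arrow.mk g))).1 h1)
  refine (Sheaf.isLocallyBijective_iff_isIso _).1
    ⟨Groth.L27.EtSite.isLocallyInjective_of_some_stalks _ fun y => ?_,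
      Groth.L27.EtSite.isLocallySurjective_of_some_stalks _ fun y => ?_⟩
  · obtain ⟨Ω, h1, h2, ξ, hξ, h⟩ := hb y; exact ⟨Ω, h1, h2, ξ, hξ, h.1⟩
  · obtain ⟨Ω, h1, h2, ξ, hξ, h⟩ := hb y; exact ⟨Ω, h1, h2, ξ, hξ, h.2⟩

theorem isTorsion_of_pull (f : X ⟶ Y) [Surjective f] [CompactSpace X] [QuasiSeparatedSpace X] {F : EtCoh.Ab Y}
    (h : EtPBC.IsConstructible ((EtCoh.pull f).obj F)) : EtCoh.IsTorsion F := by
  intro U s x
  obtain ⟨x', hx'⟩ := f.surjective (U.hom.base x)
  obtain ⟨Ω, _, _, ξ', hξ'⟩ := Groth.L27.EtSite.exists_geometric_point x'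
  let ξ : Spec (CommRingCat.of Ω) ⟶ Y := ξ' ≫ f
  haveI : Finite ((EtCoh.pull f ⋙ EtCoh.stalk ξ').obj F) := finite_stalk h ξ'
  haveI : Finite ((EtCoh.stalk ξ).obj F) :=
    Finite.of_equiv _ ((Groth.L27.EtSite.stalkPullIso f ξ').app F).addCommGroupIsoToAddEquiv.toEquiv
  let Φ := Scheme.pointSmallEtale ξ
  obtain ⟨y, hy⟩ := Groth.L27.EtSite.exists_fiber ξ U x (by
    rw [show ξ.base default = f (ξ'.base default) from rfl, hξ', hx'])
  let a : (EtCoh.stalk ξ).obj F := Φ.toPresheafFiber U y F.obj s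
  obtain ⟨n, hn, hna⟩ : ∃ n : ℕ, 0 < n ∧ n • Φ.toPresheafFiber U y F.obj s = 0 :=
    ⟨_, addOrderOf_pos a, addOrderOf_nsmul_eq_zero a⟩
  obtain ⟨V, g, y', hy', he⟩ := (Φ.toPresheafFiber_eq_iff' _ _ (n • s) 0).1 (by
    rw [map_nsmul, map_zero]; exact hna)
  let q' : Spec (CommRingCat.of Ω) ⟶ V.left := y'.left
  let q : Spec (CommRingCat.of Ω) ⟶ U.left := y.left
  refine ⟨V, g, ⟨q' default, ?_⟩, isOfFinAddOrder_iff_nsmul_eq_zero.2 ⟨n, hn, ?_⟩⟩
  · have e : q' ≫ g.left = q := congrArg (fun z : Φ.fiber.obj U => z.left) hy'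
    exact (Scheme.Hom.comp_apply _ _ _).symm.trans ((congrArg (fun m => m default) e).trans hy)
  · refine (map_nsmul (F.obj.map g.op).hom n s).symm.trans ?_
    exact he.trans (map_zero _)

theorem isConstructible_of_pull_surjective [CompactSpace Y] [QuasiSeparatedSpace Y] [CompactSpace X]
    [QuasiSeparatedSpace X] (f : X ⟶ Y) [Surjective f] {F : EtCoh.Ab Y}
    (h : EtPBC.IsConstructible ((EtCoh.pull f).obj F)) : EtPBC.IsConstructible F := by
  let P := EtCoh.pull f
  haveI : P.IsLeftAdjoint := ⟨_, ⟨EtCoh.pullPushAdj f⟩⟩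
  haveI : PreservesFiniteLimits P := Groth.L27.EtSite.preservesFiniteLimits_pull f
  haveI : PreservesColimitsOfSize.{u + 1, u + 1} P := (EtCoh.pullPushAdj f).leftAdjoint_preservesColimits
  haveI : PreservesFiniteColimits P := inferInstance
  have hT := isTorsion_of_pull f h
  obtain ⟨hc⟩ := isColimit_presCocone hT
  let hc' := isColimitOfPreserves P hc
  obtain ⟨i, s, hs⟩ := (homCommutes_of_isConstructible_big h hc').1 (𝟙 _)
  have hD : ∀ j : PresOver F, EtPBC.IsConstructible (P.obj ((presDiag F).obj j)) := fun j =>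
    isConstructible_pull f j.1.isConstructible_obj
  obtain ⟨k, a, hk⟩ := (homCommutes_of_isConstructible_big (hD i) hc').2 i
    (𝟙 _ - P.map ((presCocone F).ι.app i) ≫ s) (by
      rw [Preadditive.sub_comp, Category.assoc, hs, Category.id_comp]
      exact sub_eq_zero.2 (Category.comp_id _).symm)
  rw [Preadditive.sub_comp, sub_eq_zero, Category.id_comp, Category.assoc] at hk
  haveI : IsSplitEpi (P.map ((presCocone F).ι.app i)) := IsSplitEpi.mk' ⟨s, hs⟩
  haveI := isIso_image_of_functor P (fun g => isIso_of_isIso_pull f g) ((presDiag F).map a)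
    ((presCocone F).ι.app i) ((presCocone F).ι.app k) (s ≫ P.map ((presDiag F).map a))
    (by rw [Category.assoc, ← P.map_comp, (presCocone F).w]; exact hs) hk
  refine isConstructible_of_iso (asIso (kernel.ι (cokernel.π ((presDiag F).map a)) ≫ (presCocone F).ι.app k)) ?_
  exact (Strata.isConstructible_kernel_cokernel _ k.1.isConstructible_obj
    (Strata.isConstructible_kernel_cokernel _ i.1.isConstructible_obj k.1.isConstructible_obj).2).1

end Groth.L28.ExtShriek
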