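import Groth.Agent.L28.ExtShriek.BaseChange
import Groth.Agent.L28.ExtShriek.Local
import Groth.Agent.L28.ExtShriek.Split
import Groth.Agent.L28.LocConst.PullInst
import Groth.Agent.S9559
import Mathlib.AlgebraicGeometry.Limits

/-!
Extension by zero along a finite étale morphism preserves finite local constancy.
-/

set_option autoImplicit false
set_option linter.style.haveILetI false

universe u

open CategoryTheory CategoryTheory.Limits AlgebraicGeometry Opposite

set_option backward.isDefEq.respectTransparency.types false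

namespace Groth.L28.ExtShriek

theorem isFLC_extZero_iso {V U : Scheme.{u}} (a : V ⟶ U) [IsIso a] [EtShriek.JCont a] (H : EtCoh.Ab V)
    (hH : EtCoh.IsFiniteLocallyConstant H) : EtCoh.IsFiniteLocallyConstant ((EtShriek.extZero a).obj H) := by
  refine isFLC_of_cover fun x => ⟨V, a, inferInstance, ?_, ?_⟩
  · exact a.surjective x
  · haveI := (Groth.L27.ExtZero.isIso_counit_of_mono a).2
    exact Strata.isFLC_of_iso (asIso ((EtShriek.extZeroAdj a).unit.app H) ≪≫
      ((Groth.L27.ExtZero.pullRestr a).app _).symm) hH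

theorem isFLC_extZero_of_finite {Y X : Scheme.{u}} (f : Y ⟶ X) [AlgebraicGeometry.Etale f] [IsFinite f]
    [EtShriek.JCont f] (G : EtCoh.Ab Y) (hG : EtCoh.IsFiniteLocallyConstant G) :
    EtCoh.IsFiniteLocallyConstant ((EtShriek.extZero f).obj G) := by
  refine isFLC_of_cover fun x => ?_
  obtain ⟨T, g, hg, u, hu, n, V, c, hc, e, he⟩ := Groth.Agent.S9559.result f x
  refine ⟨T, g, hg, ⟨u, hu⟩, ?_⟩
  haveI := Groth.L27.ExtZero.jCont (pullback.snd f g)
  refine Strata.isFLC_of_iso ((extZeroPullIso (IsPullback.of_hasPullback f g)).app G).symm ?_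
  set G' := (EtCoh.pull (pullback.fst f g)).obj G
  have hG' : EtCoh.IsFiniteLocallyConstant G' := LocConst.isFiniteLocallyConstant_pull _ G hG
  let σ : ∀ k, V k ⟶ pullback f g := fun k => Sigma.ι V k ≫ e.hom
  haveI : ∀ k, IsOpenImmersion (σ k) := fun k => inferInstanceAs (IsOpenImmersion (Sigma.ι V k ≫ e.hom))
  have hdis : Pairwise fun k l => Disjoint (Set.range (σ k)) (Set.range (σ l)) := by
    intro k l hkl
    show Disjoint (Set.range (Sigma.ι V k ≫ e.hom)) (Set.range (Sigma.ι V l ≫ e.hom))
    rw [Scheme.Hom.comp_base, TopCat.coe_comp, Set.range_comp, Scheme.Hom.comp_base, TopCat.coe_comp, Set.range_comp]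
    exact Set.disjoint_image_of_injective e.hom.isEmbedding.injective
      (TopologicalSpace.Opens.coe_disjoint.2 (disjoint_opensRange_sigmaι V k l hkl))
  have hcov : ∀ z, ∃ k, z ∈ Set.range (σ k) := by
    intro z
    obtain ⟨k, y, hy⟩ := (Scheme.IsLocallyDirected.ι_jointly_surjective (Discrete.functor V) (e.inv z))
    refine ⟨k.as, y, ?_⟩
    show e.hom (Sigma.ι V k.as y) = z
    rw [show Sigma.ι V k.as y = e.inv z from hy, ← Scheme.Hom.comp_apply, e.inv_hom_id]
    rfl
  obtain ⟨d⟩ := nonempty_decomp V σ hdis hcov G'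
  refine Strata.isFLC_of_iso (((EtShriek.extZero (pullback.snd f g)).mapBiproduct _).symm ≪≫
    (EtShriek.extZero (pullback.snd f g)).mapIso d) (isFLC_biproduct _ fun k => ?_)
  haveI hk : IsIso (σ k ≫ pullback.snd f g) := by
    show IsIso ((Sigma.ι V k ≫ e.hom) ≫ pullback.snd f g)
    rw [Category.assoc, he k]
    exact hc k
  refine Strata.isFLC_of_iso ((extZeroComp (σ k) (pullback.snd f g)).app _).symm ?_
  exact isFLC_extZero_iso (σ k ≫ pullback.snd f g) _
    (Strata.isFLC_of_iso ((Groth.L27.ExtZero.pullRestr (σ k)).app G')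
      (LocConst.isFiniteLocallyConstant_pull (σ k) G' hG'))

end Groth.L28.ExtShriek
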