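import Groth.Agent.L28.ExtShriek.Pres
import Groth.Agent.L27.Colim.Etale
import Groth.Agent.L27.Colim.Sections
import Groth.Agent.L28.ColimBig.Sections

/-!
Constructible sheaves are compact objects among abelian étale sheaves.
-/

set_option autoImplicit false
set_option linter.style.haveILetI false

universe u w

open CategoryTheory CategoryTheory.Limits AlgebraicGeometry Opposite

set_option backward.isDefEq.respectTransparency.types false

namespace Groth.L28.ExtShriek

variable {X : Scheme.{u}}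

/-- the tautological section of `j_! (ℤ/n)` -/
noncomputable def gen (V : X.Etale) (n : ℕ) : EtCoh.sect (EtPBC.extZeroConst V (ZMod n)) V :=
  (constExtAdj V).unit.app (AddCommGrpCat.of (ULift.{u + 1} (ZMod n))) (ULift.up 1)

theorem homEquiv_apply_one {F : EtCoh.Ab X} (V : X.Etale) (n : ℕ) (φ : EtPBC.extZeroConst V (ZMod n) ⟶ F) :
    ((constExtAdj V).homEquiv (AddCommGrpCat.of (ULift.{u + 1} (ZMod n))) F φ) (ULift.up 1) =
      φ.hom.app (op V) (gen V n) :=
  congrArg (fun m : AddCommGrpCat.of (ULift.{u + 1} (ZMod n)) ⟶ F.obj.obj (op V) => m (ULift.up 1))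
    ((constExtAdj V).homEquiv_unit (X := AddCommGrpCat.of (ULift.{u + 1} (ZMod n))) (Y := F) (f := φ))

theorem ext_gen {F : EtCoh.Ab X} {V : X.Etale} {n : ℕ} {φ ψ : EtPBC.extZeroConst V (ZMod n) ⟶ F}
    (h : φ.hom.app (op V) (gen V n) = ψ.hom.app (op V) (gen V n)) : φ = ψ := by
  refine ((constExtAdj V).homEquiv (AddCommGrpCat.of (ULift.{u + 1} (ZMod n))) F).injective ?_
  refine AddCommGrpCat.ext fun z => ?_
  obtain ⟨c⟩ := z
  obtain ⟨c, rfl⟩ := ZMod.intCast_surjective c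
  have hz : (ULift.up (c : ZMod n) : ULift.{u + 1} (ZMod n)) = c • ULift.up 1 :=
    ULift.ext _ _ (zsmul_one c).symm
  refine (congrArg _ hz).trans ((map_zsmul _ c _).trans ?_)
  refine Eq.trans ?_ ((congrArg _ hz).trans (map_zsmul _ c _)).symm
  exact congrArg (c • ·) ((homEquiv_apply_one V n φ).trans (h.trans (homEquiv_apply_one V n ψ).symm))

theorem nsmul_gen (V : X.Etale) (n : ℕ) : n • gen V n = 0 := by
  refine (map_nsmul ((constExtAdj V).unit.app (AddCommGrpCat.of (ULift.{u + 1} (ZMod n)))).hom n _).symm.trans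
    ((congrArg _ (ULift.ext _ _ ?_)).trans (map_zero _))
  simp

theorem exists_hom_of_section {F : EtCoh.Ab X} (V : X.Etale) (n : ℕ) (s : EtCoh.sect F V) (hs : n • s = 0) :
    ∃ φ : EtPBC.extZeroConst V (ZMod n) ⟶ F, φ.hom.app (op V) (gen V n) = s := by
  let g : ZMod n →+ EtCoh.sect F V := ZMod.lift n ⟨zmultiplesHom _ s, by simpa using hs⟩
  let ψ : AddCommGrpCat.of (ULift.{u + 1} (ZMod n)) ⟶ F.obj.obj (op V) :=
    AddCommGrpCat.ofHom (g.comp (AddEquiv.ulift : ULift.{u + 1} (ZMod n) ≃+ ZMod n).toAddMonoidHom)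
  refine ⟨((constExtAdj V).homEquiv (AddCommGrpCat.of (ULift.{u + 1} (ZMod n))) F).symm ψ, ?_⟩
  refine (homEquiv_apply_one V n _).symm.trans ?_
  refine (congrArg (fun m : AddCommGrpCat.of (ULift.{u + 1} (ZMod n)) ⟶ F.obj.obj (op V) => m (ULift.up 1))
    (Equiv.apply_symm_apply _ ψ)).trans ?_
  show g 1 = s
  rw [show (1 : ZMod n) = ((1 : ℤ) : ZMod n) from Int.cast_one.symm]
  exact (ZMod.lift_coe n _ 1).trans (one_zsmul s)

section
variable {J : Type w} [SmallCategory J] [IsFiltered J]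

/-- maps out of `A` commute with the filtered colimit `c` -/
def HomCommutes (A : EtCoh.Ab X) {D : J ⥤ EtCoh.Ab X} (c : Cocone D) : Prop :=
  (∀ f : A ⟶ c.pt, ∃ (j : J) (g : A ⟶ D.obj j), g ≫ c.ι.app j = f) ∧
    ∀ (j : J) (g : A ⟶ D.obj j), g ≫ c.ι.app j = 0 → ∃ (k : J) (a : j ⟶ k), g ≫ D.map a = 0

theorem homCommutes_atom {J : Type u} [SmallCategory J] [IsFiltered J] {D : J ⥤ EtCoh.Ab X} {c : Cocone D} (hc : IsColimit c) (V : X.Etale)
    [CompactSpace V.left] [QuasiSeparatedSpace V.left] (n : ℕ) :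
    HomCommutes (EtPBC.extZeroConst V (ZMod n)) c := by
  have hV : Groth.L27.Colim.Qcqs V := ⟨‹_›, ‹_›⟩
  refine ⟨fun f => ?_, fun j g hg => ?_⟩
  · obtain ⟨j, y, hy⟩ := Groth.L27.Colim.exists_rep Groth.L27.Colim.good hc hV (f.hom.app (op V) (gen V n))
    obtain ⟨k, a, hk⟩ := Groth.L27.Colim.exists_map_eq_zero Groth.L27.Colim.good hc hV j (n • y) (by
      rw [map_nsmul, hy, ← map_nsmul, nsmul_gen, map_zero])
    obtain ⟨g, hg⟩ := exists_hom_of_section V n ((D.map a).hom.app (op V) y) (by rw [← map_nsmul, hk])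
    refine ⟨k, g, ext_gen ?_⟩
    show (c.ι.app k).hom.app (op V) (g.hom.app (op V) (gen V n)) = _
    rw [hg, ← hy, Groth.L27.Colim.ι_map]
  · obtain ⟨k, a, hk⟩ := Groth.L27.Colim.exists_map_eq_zero Groth.L27.Colim.good hc hV j (g.hom.app (op V) (gen V n))
      (congrArg (fun m => m.hom.app (op V) (gen V n)) hg)
    exact ⟨k, a, ext_gen hk⟩

theorem homCommutes_atom_big {J : Type (u + 1)} [SmallCategory J] [IsFiltered J] {D : J ⥤ EtCoh.Ab X} {c : Cocone D} (hc : IsColimit c) (V : X.Etale)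
    [CompactSpace V.left] [QuasiSeparatedSpace V.left] (n : ℕ) :
    HomCommutes (EtPBC.extZeroConst V (ZMod n)) c := by
  have hV : Groth.L27.Colim.Qcqs V := ⟨‹_›, ‹_›⟩
  refine ⟨fun f => ?_, fun j g hg => ?_⟩
  · obtain ⟨j, y, hy⟩ := ColimBig.exists_rep Groth.L27.Colim.good hc hV (f.hom.app (op V) (gen V n))
    obtain ⟨k, a, hk⟩ := ColimBig.exists_map_eq_zero Groth.L27.Colim.good hc hV j (n • y) (by
      rw [map_nsmul, hy, ← map_nsmul, nsmul_gen, map_zero])
    obtain ⟨g, hg⟩ := exists_hom_of_section V n ((D.map a).hom.app (op V) y) (by rw [← map_nsmul, hk])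
    refine ⟨k, g, ext_gen ?_⟩
    show (c.ι.app k).hom.app (op V) (g.hom.app (op V) (gen V n)) = _
    rw [hg, ← hy, ColimBig.ι_map]
  · obtain ⟨k, a, hk⟩ := ColimBig.exists_map_eq_zero Groth.L27.Colim.good hc hV j (g.hom.app (op V) (gen V n))
      (congrArg (fun m => m.hom.app (op V) (gen V n)) hg)
    exact ⟨k, a, ext_gen hk⟩

omit [IsFiltered J] in
theorem HomCommutes.of_iso {A B : EtCoh.Ab X} (e : A ≅ B) {D : J ⥤ EtCoh.Ab X} {c : Cocone D}
    (h : HomCommutes A c) : HomCommutes B c := by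
  refine ⟨fun f => ?_, fun j g hg => ?_⟩
  · obtain ⟨j, g, hg⟩ := h.1 (e.hom ≫ f)
    exact ⟨j, e.inv ≫ g, by rw [Category.assoc, hg, e.inv_hom_id_assoc]⟩
  · obtain ⟨k, a, hk⟩ := h.2 j (e.hom ≫ g) (by rw [Category.assoc, hg, comp_zero])
    exact ⟨k, a, (cancel_epi e.hom).1 (by rw [← Category.assoc, hk, comp_zero])⟩

theorem homCommutes_biproduct {ι : Type} [Finite ι] {M : ι → EtCoh.Ab X} {D : J ⥤ EtCoh.Ab X} {c : Cocone D}
    (h : ∀ i, HomCommutes (M i) c) : HomCommutes (⨁ M) c := by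
  classical
  haveI := Fintype.ofFinite ι
  refine ⟨fun f => ?_, fun j g hg => ?_⟩
  · choose j g hg using fun i => (h i).1 (biproduct.ι M i ≫ f)
    obtain ⟨m, hm⟩ := IsFiltered.sup_objs_exists (Finset.univ.image j)
    refine ⟨m, biproduct.desc fun i => g i ≫ D.map (hm (Finset.mem_image_of_mem j (Finset.mem_univ i))).some,
      biproduct.hom_ext' _ _ fun i => ?_⟩
    rw [biproduct.ι_desc_assoc, Category.assoc, c.w]
    exact hg i
  · choose k a hk using fun i => (h i).2 j (biproduct.ι M i ≫ g) (by rw [Category.assoc, hg, comp_zero])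
    let O : Finset J := insert j (Finset.univ.image k)
    let H : Finset (Σ' (a b : J) (_ : a ∈ O) (_ : b ∈ O), a ⟶ b) :=
      Finset.univ.image fun i => ⟨j, k i, Finset.mem_insert_self _ _,
        Finset.mem_insert_of_mem (Finset.mem_image_of_mem k (Finset.mem_univ i)), a i⟩
    obtain ⟨m, T, hT⟩ := IsFiltered.sup_exists O H
    refine ⟨m, T (Finset.mem_insert_self _ _), biproduct.hom_ext' _ _ fun i => ?_⟩
    rw [comp_zero, ← hT _ _ (Finset.mem_image_of_mem _ (Finset.mem_univ i)), D.map_comp, ← Category.assoc,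
      ← Category.assoc, hk i, zero_comp]

omit [IsFiltered J] in
theorem homCommutes_cokernel {A B : EtCoh.Ab X} (φ : A ⟶ B) {D : J ⥤ EtCoh.Ab X} {c : Cocone D}
    (hA : HomCommutes A c) (hB : HomCommutes B c) : HomCommutes (cokernel φ) c := by
  refine ⟨fun f => ?_, fun j g hg => ?_⟩
  · obtain ⟨j, g, hg⟩ := hB.1 (cokernel.π φ ≫ f)
    obtain ⟨k, a, hk⟩ := hA.2 j (φ ≫ g) (by rw [Category.assoc, hg, cokernel.condition_assoc, zero_comp])
    refine ⟨k, cokernel.desc φ (g ≫ D.map a) (by rw [← Category.assoc, hk]), (cancel_epi (cokernel.π φ)).1 ?_⟩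
    rw [cokernel.π_desc_assoc, Category.assoc, c.w, hg]
  · obtain ⟨k, a, hk⟩ := hB.2 j (cokernel.π φ ≫ g) (by rw [Category.assoc, hg, comp_zero])
    exact ⟨k, a, (cancel_epi (cokernel.π φ)).1 (by rw [← Category.assoc, hk, comp_zero])⟩

theorem homCommutes_of_atoms [CompactSpace X] [QuasiSeparatedSpace X] {F : EtCoh.Ab X}
    (hF : EtPBC.IsConstructible F) {D : J ⥤ EtCoh.Ab X} {c : Cocone D}
    (hatom : ∀ (V : X.Etale) [CompactSpace V.left] [QuasiSeparatedSpace V.left] (n : ℕ),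
      HomCommutes (EtPBC.extZeroConst V (ZMod n)) c) : HomCommutes F c := by
  obtain ⟨a, b, U, V, n, m, hU, hV, φ, ⟨e⟩⟩ := exists_presentation hF
  refine HomCommutes.of_iso e.symm (homCommutes_cokernel φ (homCommutes_biproduct fun i => ?_)
    (homCommutes_biproduct fun i => ?_))
  · haveI := (hV i).2
    exact hatom _ _
  · haveI := (hU i).2
    exact hatom _ _

theorem homCommutes_of_isConstructible {J : Type u} [SmallCategory J] [IsFiltered J]
    [CompactSpace X] [QuasiSeparatedSpace X] {F : EtCoh.Ab X} (hF : EtPBC.IsConstructible F)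
    {D : J ⥤ EtCoh.Ab X} {c : Cocone D} (hc : IsColimit c) : HomCommutes F c :=
  homCommutes_of_atoms hF fun V _ _ n => homCommutes_atom hc V n

theorem homCommutes_of_isConstructible_big {J : Type (u + 1)} [SmallCategory J] [IsFiltered J]
    [CompactSpace X] [QuasiSeparatedSpace X] {F : EtCoh.Ab X} (hF : EtPBC.IsConstructible F)
    {D : J ⥤ EtCoh.Ab X} {c : Cocone D} (hc : IsColimit c) : HomCommutes F c :=
  homCommutes_of_atoms hF fun V _ _ n => homCommutes_atom_big hc V n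

theorem preservesColimitsOfShape_coyoneda {J : Type u} [SmallCategory J] [IsFiltered J] [CompactSpace X] [QuasiSeparatedSpace X] {F : EtCoh.Ab X}
    (hF : EtPBC.IsConstructible F) : PreservesColimitsOfShape J (coyoneda.obj (op F)) := by
  refine ⟨fun {D} => ⟨fun {c} hc => ⟨Types.FilteredColimit.isColimitOf _ _ (fun f => ?_) fun i j gi gj h => ?_⟩⟩⟩
  · obtain ⟨j, g, hg⟩ := (homCommutes_of_isConstructible hF hc).1 f
    exact ⟨j, g, hg.symm⟩
  · obtain ⟨gi, rfl⟩ : ∃ g : F ⟶ D.obj i, g = gi := ⟨gi, rfl⟩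
    obtain ⟨gj, rfl⟩ : ∃ g : F ⟶ D.obj j, g = gj := ⟨gj, rfl⟩
    have h' : gi ≫ c.ι.app i = gj ≫ c.ι.app j := h
    obtain ⟨k, a, hk⟩ := (homCommutes_of_isConstructible hF hc).2 (IsFiltered.max i j)
      (gi ≫ D.map (IsFiltered.leftToMax i j) - gj ≫ D.map (IsFiltered.rightToMax i j)) (by
      rw [Preadditive.sub_comp, Category.assoc, Category.assoc, c.w, c.w, h', sub_self])
    refine ⟨k, IsFiltered.leftToMax i j ≫ a, IsFiltered.rightToMax i j ≫ a, ?_⟩
    show gi ≫ D.map _ = gj ≫ D.map _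
    rw [D.map_comp, D.map_comp, ← Category.assoc, ← Category.assoc, ← sub_eq_zero, ← Preadditive.sub_comp]
    exact hk

end

end Groth.L28.ExtShriek
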