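import Groth.Agent.L28.ExtShriek.Descent
import Mathlib.AlgebraicGeometry.Morphisms.FinitePresentation
import Mathlib.AlgebraicGeometry.Limits

/-!
Constructibility descends along surjective morphisms locally of finite presentation.
-/

set_option autoImplicit false
set_option linter.style.haveILetI false

universe u

open CategoryTheory CategoryTheory.Limits AlgebraicGeometry Opposite

set_option backward.isDefEq.respectTransparency.types false

namespace Groth.L28.ExtShriek

theorem exists_affine_surjective {W P : Scheme.{u}} [CompactSpace W] [QuasiSeparatedSpace W] (g : P ⟶ W)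
    [Surjective g] [LocallyOfFinitePresentation g] :
    ∃ (Z : Scheme.{u}) (_ : IsAffine Z) (k : Z ⟶ P), Surjective (k ≫ g) := by
  classical
  let 𝒰 := P.affineCover
  have hc : ∀ i, Topology.IsConstructible (Set.range (𝒰.f i ≫ g)) := fun i => by
    haveI : QuasiCompact (𝒰.f i ≫ g) := quasiCompact_of_compactSpace _
    rw [← Set.image_univ]
    exact (𝒰.f i ≫ g).isConstructible_image .univ
  obtain ⟨t, ht⟩ := (CompactSpace.isCompact_univ (X := WithConstructibleTopology W)).elim_finite_subcover
    (fun i => (WithTopology.ofTopology : WithConstructibleTopology W → W) ⁻¹' Set.range (𝒰.f i ≫ g))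
    (fun i => isOpen_constructible (hc i)) (fun w _ => by
      obtain ⟨p, hp⟩ := g.surjective (WithTopology.ofTopology w : W)
      obtain ⟨i, z, hz⟩ := 𝒰.exists_eq p
      exact Set.mem_iUnion.2 ⟨i, z, by rw [Scheme.Hom.comp_apply, hz, hp]⟩)
  haveI : ∀ i : t, IsAffine (𝒰.X i.1) := fun i => inferInstance
  refine ⟨∐ fun i : t => 𝒰.X i.1, inferInstance, Limits.Sigma.desc fun i => 𝒰.f i.1, ⟨fun w => ?_⟩⟩
  obtain ⟨i, hi⟩ := Set.mem_iUnion.1 (ht (Set.mem_univ (WithTopology.toTopology _ w)))
  obtain ⟨hit, z, hz⟩ := Set.mem_iUnion.1 hi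
  refine ⟨Limits.Sigma.ι (fun i : t => 𝒰.X i.1) ⟨i, hit⟩ z, ?_⟩
  rw [← Scheme.Hom.comp_apply, Limits.Sigma.ι_desc_assoc]
  exact hz

theorem isConstructible_of_pull_lfp {X Y : Scheme.{u}} (f : X ⟶ Y) [Surjective f] [LocallyOfFinitePresentation f]
    {F : EtCoh.Ab Y} (h : EtPBC.IsConstructible ((EtCoh.pull f).obj F)) : EtPBC.IsConstructible F := by
  rw [Strata.isConstructible_iff]
  intro U hU
  haveI : IsAffine U.toScheme := hU
  obtain ⟨Z, _, k, hk⟩ := exists_affine_surjective (pullback.snd f U.ι)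
  haveI := hk
  have e : (k ≫ pullback.fst f U.ι) ≫ f = (k ≫ pullback.snd f U.ι) ≫ U.ι := by
    rw [Category.assoc, Category.assoc, pullback.condition]
  have hZ : EtPBC.IsConstructible ((EtCoh.pull (k ≫ pullback.snd f U.ι)).obj ((EtCoh.pull U.ι).obj F)) :=
    isConstructible_of_iso (((EtCore.pullComp (k ≫ pullback.fst f U.ι) f).app F).symm ≪≫
      eqToIso (congrArg (fun m => (EtCoh.pull m).obj F) e) ≪≫
      ((EtCore.pullComp (k ≫ pullback.snd f U.ι) U.ι).app F)) (isConstructible_pull (k ≫ pullback.fst f U.ι) h)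
  have hF := isConstructible_of_pull_surjective (k ≫ pullback.snd f U.ι) hZ
  rw [Strata.isConstructible_iff] at hF
  exact ((Strata.loc_iff_strat (Strata.stable_lcPred _)).1 hF).mono fun T g hg =>
    (Strata.lcPred_comp _ U.ι g).1 hg

end Groth.L28.ExtShriek
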