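import Groth.Agent.L27.ExtZero.Cont
import Groth.Agent.L27.LimCoh.BC
import Groth.Prelude.Def_EtShriek2
import Mathlib.CategoryTheory.Adjunction.Unique
import Mathlib.CategoryTheory.Sites.Continuous

/-!
Extension by zero along an etale morphism commutes with inverse image.
-/

set_option autoImplicit false
set_option linter.style.haveILetI false

universe u

open CategoryTheory CategoryTheory.Limits AlgebraicGeometry Opposite
open Groth.L27

set_option backward.isDefEq.respectTransparency.types false

namespace Groth.L28.ExtShriek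

variable {U X U' X' : Scheme.{u}} {f : U ⟶ X} {g : X' ⟶ X} {f' : U' ⟶ X'} {g' : U' ⟶ U}
  [Etale f] [Etale f'] (sq : IsPullback g' f' f g)

include sq

omit [Etale f] [Etale f'] in
theorem sqObj (T : U.Etale) :
    IsPullback (LimCoh.fstB g' T) (((EtCoh.bc g').obj T).hom ≫ f') (T.hom ≫ f) g :=
  IsPullback.paste_vert (IsPullback.of_hasPullback T.hom g') sq

/-- the comparison of the two composites on sites -/
noncomputable def siteIsoApp (T : U.Etale) :
    (EtShriek.compEtale f').obj ((EtCoh.bc g').obj T) ≅ (EtCoh.bc g).obj ((EtShriek.compEtale f).obj T) :=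
  MorphismProperty.Over.isoMk (sqObj sq T).isoPullback ((sqObj sq T).isoPullback_hom_snd)

theorem siteIsoApp_fstB (T : U.Etale) :
    (siteIsoApp sq T).hom.left ≫ LimCoh.fstB g ((EtShriek.compEtale f).obj T) = LimCoh.fstB g' T :=
  (sqObj sq T).isoPullback_hom_fst

/-- composition with an etale morphism commutes with base change -/
noncomputable def siteIso :
    EtCoh.bc g' ⋙ EtShriek.compEtale f' ≅ EtShriek.compEtale f ⋙ EtCoh.bc g :=
  NatIso.ofComponents (fun T => siteIsoApp sq T) fun {T T'} m => LimCoh.bc_hom_ext g (by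
    refine (Category.assoc _ _ _).trans ((congrArg (_ ≫ ·) (siteIsoApp_fstB sq T')).trans ?_)
    refine (LimCoh.fstB_nat g' m).trans ?_
    refine Eq.trans ?_ (Category.assoc _ _ _).symm
    refine Eq.trans ?_ (congrArg (_ ≫ ·) (LimCoh.fstB_nat g ((EtShriek.compEtale f).map m))).symm
    exact (congrArg (· ≫ m.left) (siteIsoApp_fstB sq T).symm).trans (Category.assoc _ _ _))

variable [EtShriek.JCont f] [EtShriek.JCont f']

/-- restriction along an etale morphism commutes with direct image -/
noncomputable def pushRestrIso : EtCoh.push g ⋙ EtShriek.restrAlong f ≅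
    EtShriek.restrAlong f' ⋙ EtCoh.push g' :=
  haveI : (EtShriek.compEtale f ⋙ EtCoh.bc g).IsContinuous U.smallEtaleTopology X'.smallEtaleTopology :=
    Functor.isContinuous_comp _ _ _ X.smallEtaleTopology _
  Functor.sheafPushforwardContinuousComp' (F := EtShriek.compEtale f) (G := EtCoh.bc g)
      (FG := EtShriek.compEtale f ⋙ EtCoh.bc g) (Iso.refl _) AddCommGrpCat.{u + 1}
      U.smallEtaleTopology X.smallEtaleTopology X'.smallEtaleTopology ≪≫
    (Functor.sheafPushforwardContinuousComp' (F := EtCoh.bc g') (G := EtShriek.compEtale f')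
      (FG := EtShriek.compEtale f ⋙ EtCoh.bc g) (siteIso sq) AddCommGrpCat.{u + 1}
      U.smallEtaleTopology U'.smallEtaleTopology X'.smallEtaleTopology).symm

/-- extension by zero along an etale morphism commutes with inverse image -/
noncomputable def extZeroPullIso : EtShriek.extZero f ⋙ EtCoh.pull g ≅
    EtCoh.pull g' ⋙ EtShriek.extZero f' :=
  Adjunction.leftAdjointUniq ((EtShriek.extZeroAdj f).comp (EtCoh.pullPushAdj g))
    (((EtCoh.pullPushAdj g').comp (EtShriek.extZeroAdj f')).ofNatIsoRight (pushRestrIso sq).symm)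

end Groth.L28.ExtShriek
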