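import Groth.Agent.L28.ExtShriek.FiniteEt
import Groth.Agent.L28.EtaleStrata.Main
import Groth.Agent.L28.Strata.Et

/-!
Extension by zero of a finite locally constant sheaf along an étale morphism is constructible.
-/

set_option autoImplicit false
set_option linter.style.haveILetI false

universe u

open CategoryTheory CategoryTheory.Limits AlgebraicGeometry Opposite

set_option backward.isDefEq.respectTransparency.types false

namespace Groth.L28.ExtShriek

theorem isConstructible_extZero {U X : Scheme.{u}} [CompactSpace X] [QuasiSeparatedSpace X] [CompactSpace U]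
    [QuasiSeparatedSpace U] (f : U ⟶ X) [AlgebraicGeometry.Etale f] [EtShriek.JCont f] (F : EtCoh.Ab U)
    (hF : EtCoh.IsFiniteLocallyConstant F) : EtPBC.IsConstructible ((EtShriek.extZero f).obj F) := by
  rw [Strata.isConstructible_iff]
  refine (Strata.loc_iff_strat (Strata.stable_lcPred _)).2 ((EtaleStrata.strat_finPred f).mono fun T g hg => ?_)
  haveI : IsFinite (pullback.snd f g) := hg
  haveI := Groth.L27.ExtZero.jCont (pullback.snd f g)
  exact Strata.isFLC_of_iso ((extZeroPullIso (IsPullback.of_hasPullback f g)).app F).symm
    (isFLC_extZero_of_finite (pullback.snd f g) _ (LocConst.isFiniteLocallyConstant_pull _ F hF))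

end Groth.L28.ExtShriek
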