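import Groth.Agent.L28.ExtShriek.IndConstr
import Groth.Agent.L28.ExtShriek.Killed
import Groth.Agent.L28.ColimBig.Cohomology
import Groth.Agent.L27.Colim.FreeSheaf
import Mathlib.GroupTheory.FreeAbelianGroup

/-!
Positive-degree cohomology is effaceable in constructible sheaves.
-/

set_option autoImplicit false
set_option linter.style.haveILetI false

universe u

open CategoryTheory CategoryTheory.Limits AlgebraicGeometry Opposite CategoryTheory.Abelian

set_option backward.isDefEq.respectTransparency.types false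

namespace Groth.L28.ExtShriek

variable {X : Scheme.{u}}

theorem exists_pos_nsmul_id [CompactSpace X] [QuasiSeparatedSpace X] {F : EtCoh.Ab X}
    (hF : EtPBC.IsConstructible F) : ∃ n : ℕ, 0 < n ∧ n • 𝟙 F = 0 := by
  obtain ⟨a, U, m, hU, p, hp⟩ := exists_epi hF
  refine ⟨∏ i, m i, Finset.prod_pos fun i _ => (hU i).1, ?_⟩
  have h : (∏ i, m i) • 𝟙 (⨁ fun i => EtPBC.extZeroConst (U i) (ZMod (m i))) = 0 :=
    biproduct.hom_ext' _ _ fun i => by
      rw [Preadditive.comp_nsmul, Category.comp_id, comp_zero,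
        ← Category.id_comp (biproduct.ι (fun i => EtPBC.extZeroConst (U i) (ZMod (m i))) i), ← Preadditive.nsmul_comp]
      obtain ⟨c, hc⟩ := Finset.dvd_prod_of_mem m (Finset.mem_univ i)
      rw [hc, mul_nsmul, nsmul_id_extZeroConst, smul_zero, zero_comp]
  rw [← cancel_epi p, Preadditive.comp_nsmul, Category.comp_id, comp_zero, ← Category.id_comp p,
    ← Preadditive.nsmul_comp, h, zero_comp]

theorem mono_nsmul_freePre (U : X.Etale) {n : ℕ} (hn : n ≠ 0) : Mono (n • 𝟙 (Groth.L27.Colim.freePre U)) := by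
  haveI : ∀ V, Mono ((n • 𝟙 (Groth.L27.Colim.freePre U)).app V) := fun V => by
    rw [AddCommGrpCat.mono_iff_injective]
    intro a b h
    rw [NatTrans.app_nsmul, NatTrans.id_app] at h
    change n • a = n • b at h
    let e := FreeAbelianGroup.equivFinsupp (ULift.{u + 1, u} (V.unop ⟶ U))
    have h' : n • e a = n • e b := (map_nsmul e n a).symm.trans ((congrArg e h).trans (map_nsmul e n b))
    exact e.injective (Finsupp.ext fun x => nsmul_right_injective hn (DFunLike.congr_fun h' x))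
  exact NatTrans.mono_of_mono_app _

theorem exists_nsmul_eq_of_injective (I : EtCoh.Ab X) [Injective I] (U : X.Etale) {n : ℕ} (hn : n ≠ 0)
    (s : I.obj.obj (op U)) : ∃ t, (n • 𝟙 I).hom.app (op U) t = s := by
  let a := presheafToSheaf X.smallEtaleTopology AddCommGrpCat.{u + 1}
  haveI := mono_nsmul_freePre U hn
  haveI : Mono (n • 𝟙 (Groth.L27.Colim.freeSh U)) := by
    have : Mono (a.map (n • 𝟙 (Groth.L27.Colim.freePre U))) := inferInstance
    rwa [Functor.map_nsmul, CategoryTheory.Functor.map_id] at this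
  let φ := (Groth.L27.Colim.homEquiv U I).symm s
  refine ⟨Groth.L27.Colim.homEquiv U I (Injective.factorThru φ (n • 𝟙 (Groth.L27.Colim.freeSh U))), ?_⟩
  rw [← Groth.L27.Colim.homEquiv_comp, Preadditive.comp_nsmul, Category.comp_id]
  have h := Injective.comp_factorThru φ (n • 𝟙 (Groth.L27.Colim.freeSh U))
  rw [Preadditive.nsmul_comp, Category.id_comp] at h
  rw [h]
  exact AddEquiv.apply_symm_apply _ s

theorem shortExact_nsmul (I : EtCoh.Ab X) [Injective I] {n : ℕ} (hn : n ≠ 0) :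
    (ShortComplex.mk (kernel.ι (n • 𝟙 I)) (n • 𝟙 I) (kernel.condition _)).ShortExact :=
  haveI : Sheaf.IsLocallySurjective (n • 𝟙 I) := ⟨fun {U} s => by
    refine X.smallEtaleTopology.superset_covering (fun V g _ => ?_) (X.smallEtaleTopology.top_mem _)
    exact exists_nsmul_eq_of_injective I V hn _⟩
  haveI : Epi (n • 𝟙 I) := inferInstance
  { exact := ShortComplex.exact_of_f_is_kernel _ (kernelIsKernel _) }

theorem subsingleton_H_X₁ {T : X.Etale} (hT : IsTerminal T) (E : ShortComplex (EtCoh.Ab X)) (hE : E.ShortExact)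
    (hI : Injective E.X₂) (hI₃ : Injective E.X₃)
    (hsurj : Function.Surjective (E.g.hom.app (op T))) (q : ℕ) :
    Subsingleton (Sheaf.H E.X₁ (q + 1)) := by
  refine subsingleton_of_forall_eq 0 fun x => ?_
  obtain ⟨y, hy⟩ := Ext.covariant_sequence_exact₁ _ hE x (Ext.eq_zero_of_injective _) rfl
  rw [← hy]
  cases q with
  | zero =>
    obtain ⟨b, hb⟩ := hsurj (Sheaf.H.equiv₀ E.X₃ hT y)
    have hy' : Sheaf.H.map E.g 0 ((Sheaf.H.equiv₀ E.X₂ hT).symm b) = y := by
      rw [Sheaf.H.equiv₀_symm_naturality, hb, AddEquiv.symm_apply_apply]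
    rw [← hy', Sheaf.H.map_apply, Ext.comp_assoc_of_second_deg_zero, ShortComplex.ShortExact.comp_extClass,
      Ext.comp_zero]
  | succ q =>
    rw [@Ext.eq_zero_of_injective _ _ _ _ _ _ _ hI₃ y, Ext.zero_comp]

theorem subsingleton_H_kernel_nsmul [CompactSpace X] [QuasiSeparatedSpace X] (I : EtCoh.Ab X) [hI : Injective I]
    {n : ℕ} (hn : n ≠ 0) (q : ℕ) : Subsingleton (EtCoh.H X (kernel (n • 𝟙 I)) (q + 1)) :=
  subsingleton_H_X₁ (EtCore.topIsTerminal X) _ (shortExact_nsmul I hn) hI hI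
    (fun s => exists_nsmul_eq_of_injective I _ hn s) q

theorem effaceable [CompactSpace X] [QuasiSeparatedSpace X] {F : EtCoh.Ab X} (hF : EtPBC.IsConstructible F)
    {q : ℕ} (hq : 0 < q) (α : EtCoh.H X F q) :
    ∃ (G : EtCoh.Ab X) (u : F ⟶ G), EtPBC.IsConstructible G ∧ Mono u ∧ Sheaf.H.map u q α = 0 := by
  obtain ⟨n, hn, hnF⟩ := exists_pos_nsmul_id hF
  haveI : EnoughInjectives (EtCoh.Ab X) := inferInstance
  let I := Injective.under F
  let K := kernel (n • 𝟙 I)
  let v : F ⟶ K := kernel.lift _ (Injective.ι F) (by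
    rw [Preadditive.comp_nsmul, Category.comp_id, ← Category.id_comp (Injective.ι F), ← Preadditive.nsmul_comp, hnF,
      zero_comp])
  haveI : Mono v := mono_of_mono_fac (kernel.lift_ι _ _ _)
  have hK : EtCoh.IsTorsion K := by
    intro U s x
    refine ⟨U, 𝟙 U, ⟨x, rfl⟩, isOfFinAddOrder_iff_nsmul_eq_zero.2 ⟨n, hn, ?_⟩⟩
    have h0 : n • 𝟙 K = 0 := by
      rw [← cancel_mono (kernel.ι (n • 𝟙 I)), Preadditive.nsmul_comp, Category.id_comp, zero_comp,
        ← kernel.condition (n • 𝟙 I), Preadditive.comp_nsmul, Category.comp_id]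
    exact killed_of_nsmul_id h0 _ _
  obtain ⟨hc⟩ := isColimit_presCocone hK
  obtain ⟨j, e, he⟩ := exists_presOver hF v
  obtain ⟨p, rfl⟩ : ∃ p, q = p + 1 := ⟨q - 1, by omega⟩
  haveI := subsingleton_H_kernel_nsmul I hn.ne' p
  haveI : HasExactColimitsOfShape (PresOver K) (EtCoh.Ab X) := inferInstance
  obtain ⟨k, a, hk⟩ := (ColimBig.commutes Groth.L27.Colim.good (EtCore.topIsTerminal X)
    (hT₀ := ⟨inferInstanceAs (CompactSpace X), inferInstanceAs (QuasiSeparatedSpace X)⟩) (p + 1) (presDiag K) _ hc).2 j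
    (Sheaf.H.map e.hom (p + 1) α) (@Subsingleton.elim _ (subsingleton_H_kernel_nsmul I hn.ne' p) _ _)
  refine ⟨(presDiag K).obj k, e.hom ≫ (presDiag K).map a, k.1.isConstructible_obj, ?_, ?_⟩
  · have hm : (e.hom ≫ (presDiag K).map a) ≫ (presCocone K).ι.app k = v := by
      rw [Category.assoc, (presCocone K).w, he]
    exact mono_of_mono_fac hm
  · rw [Sheaf.H.map_comp_apply]
    exact hk

end Groth.L28.ExtShriek
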