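import Groth.Agent.L28.ExtShriek.IndConstr
import Groth.Agent.L28.ExtShriek.Killed
import Groth.Agent.L28.Transfer.Constr

/-!
Torsion sheaves on Noetherian schemes are constructible exactly when they are Noetherian objects.
-/

set_option autoImplicit false
set_option linter.style.haveILetI false

universe u

open CategoryTheory CategoryTheory.Limits AlgebraicGeometry Opposite

set_option backward.isDefEq.respectTransparency.types false

namespace Groth.L28.ExtShriek

variable {X : Scheme.{u}} [AlgebraicGeometry.IsNoetherian X] {F : EtCoh.Ab X}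

theorem isNoetherianObject_of_isConstructible (hF : EtPBC.IsConstructible F) : IsNoetherianObject F := by
  refine (isNoetherianObject_iff_monotone_chain_condition F).2 fun c => ?_
  obtain ⟨N, hN⟩ := Transfer.exists_stationary hF c
  exact ⟨N, fun m hm => (hN m hm).symm⟩

/-- images in `F` of constructible sheaves killed by a positive integer -/
def IsImg (M : Subobject F) : Prop :=
  ∃ (G : EtCoh.Ab X) (_ : EtPBC.IsConstructible G) (k : ℕ) (_ : 0 < k) (_ : k • 𝟙 G = 0) (π : G ⟶ F),
    imageSubobject π = M

omit [AlgebraicGeometry.IsNoetherian X] in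
theorem imageSubobject_le_of_comp {G G' : EtCoh.Ab X} (π : G' ⟶ F) (i : G ⟶ G') :
    imageSubobject (i ≫ π) ≤ imageSubobject π :=
  imageSubobject_le _ (i ≫ factorThruImageSubobject π)
    ((Category.assoc _ _ _).trans (congrArg (i ≫ ·) (imageSubobject_arrow_comp π)))

theorem isConstructible_of_isNoetherianObject (hF : EtCoh.IsTorsion F) (h : IsNoetherianObject F) :
    EtPBC.IsConstructible F := by
  haveI := h
  obtain ⟨M, ⟨G, hG, k, hk, hkG, π, rfl⟩, hmax⟩ := (wellFounded_gt (α := Subobject F)).has_min {M | IsImg M}
    ⟨imageSubobject (0 : (⨁ fun i : Fin 0 => (i.elim0 : EtCoh.Ab X)) ⟶ F), _,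
      isConstructible_biproduct _ fun i => i.elim0, 1, one_pos, biproduct.hom_ext' _ _ fun i => i.elim0, 0, rfl⟩
  haveI : Sheaf.IsLocallySurjective (imageSubobject π).arrow := by
    refine ⟨fun {U} s => (Groth.L27.EtSite.mem_topology_iff _).2 fun w => ?_⟩
    obtain ⟨V, g, v, hV, n, hn, hv, hns⟩ := exists_atom_section hF U s w
    obtain ⟨φ, hφ⟩ := exists_hom_of_section V n (F.obj.map g.op s) hns
    let M : Bool → EtCoh.Ab X := fun b => bif b then G else EtPBC.extZeroConst V (ZMod n)
    let q : ∀ b, M b ⟶ F
      | true => π
      | false => φ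
    have hM : ∀ b, EtPBC.IsConstructible (M b)
      | true => hG
      | false => isConstructible_atom V hn
    have hkM : (k * n) • 𝟙 (⨁ M) = 0 := biproduct.hom_ext' _ _ fun b => by
      rw [Preadditive.comp_nsmul, Category.comp_id, comp_zero, ← Category.id_comp (biproduct.ι M b),
        ← Preadditive.nsmul_comp]
      cases b
      · rw [mul_nsmul', show n • 𝟙 (M false) = 0 from nsmul_id_extZeroConst V n, smul_zero, zero_comp]
      · rw [mul_nsmul, show k • 𝟙 (M true) = 0 from hkG, smul_zero, zero_comp]
    have hle : imageSubobject π ≤ imageSubobject (biproduct.desc q) := by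
      have e := imageSubobject_le_of_comp (biproduct.desc q) (biproduct.ι M true)
      rwa [biproduct.ι_desc] at e
    have heq : imageSubobject (biproduct.desc q) = imageSubobject π :=
      (hle.eq_or_lt.resolve_right (hmax _ ⟨_, isConstructible_biproduct M hM, k * n, Nat.mul_pos hk hn, hkM, _, rfl⟩)).symm
    have hle' : imageSubobject φ ≤ imageSubobject π := by
      have e := imageSubobject_le_of_comp (biproduct.desc q) (biproduct.ι M false)
      rw [biproduct.ι_desc, heq] at e
      exact e
    refine ⟨V, g, v, ⟨((factorThruImageSubobject φ ≫ Subobject.ofLE _ _ hle').hom.app (op V)) (gen V n), ?_⟩, hv⟩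
    refine Eq.trans ?_ hφ
    refine congrArg (fun m => m.hom.app (op V) (gen V n)) (?_ : (factorThruImageSubobject φ ≫
      Subobject.ofLE _ _ hle') ≫ (imageSubobject π).arrow = φ)
    rw [Category.assoc, Subobject.ofLE_arrow, imageSubobject_arrow_comp]
  haveI : Epi (imageSubobject π).arrow := inferInstance
  haveI : Epi π := by
    rw [← imageSubobject_arrow_comp π]
    exact epi_comp _ _
  exact Transfer.isConstructible_quot π k hk hkG hG

end Groth.L28.ExtShriek
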