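import Groth.Agent.L28.ExtShriek.Local
import Groth.Agent.L28.ExtShriek.Split
import Groth.Agent.L27.ExtZero.Recollement
import Groth.Agent.L28.Strata.Et
import Mathlib.AlgebraicGeometry.Morphisms.ClosedImmersion
import Groth.Agent.L18.KerReduced

/-!
The filtration of a constructible sheaf by extensions by zero of finite locally constant sheaves.
-/

set_option autoImplicit false
set_option linter.style.haveILetI false

universe u

open CategoryTheory CategoryTheory.Limits AlgebraicGeometry Opposite TopologicalSpace Topology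

set_option backward.isDefEq.respectTransparency.types false

namespace Groth.L28.ExtShriek

variable {X : Scheme.{u}}

/-- extension by zero along equal morphisms -/
noncomputable def extZeroCongr {U : Scheme.{u}} {a b : U ⟶ X} (h : a = b) [AlgebraicGeometry.Etale a]
    [AlgebraicGeometry.Etale b] [EtShriek.JCont a] [EtShriek.JCont b] : EtShriek.extZero a ≅ EtShriek.extZero b := by
  subst h; exact Iso.refl _

/-- restriction along equal morphisms -/
noncomputable def restrCongr {U : Scheme.{u}} {a b : U ⟶ X} (h : a = b) [AlgebraicGeometry.Etale a]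
    [AlgebraicGeometry.Etale b] [EtShriek.JCont a] [EtShriek.JCont b] : EtShriek.restrAlong a ≅ EtShriek.restrAlong b := by
  subst h; exact Iso.refl _

theorem isIso_counit_of_univ {U : Scheme.{u}} (j : U ⟶ X) [IsOpenImmersion j] (h : Set.range j.base = Set.univ)
    (F : EtCoh.Ab X) : IsIso ((EtShriek.extZeroAdj j).counit.app F) := by
  haveI := (Groth.L27.ExtZero.isIso_counit_of_mono j).2
  haveI : IsIso ((EtShriek.restrAlong j).map ((EtShriek.extZeroAdj j).counit.app F)) := by
    haveI : IsIso ((EtShriek.extZeroAdj j).unit.app ((EtShriek.restrAlong j).obj F) ≫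
        (EtShriek.restrAlong j).map ((EtShriek.extZeroAdj j).counit.app F)) := by
      rw [(EtShriek.extZeroAdj j).right_triangle_components F]; exact IsIso.id _
    exact IsIso.of_isIso_comp_left ((EtShriek.extZeroAdj j).unit.app ((EtShriek.restrAlong j).obj F)) _
  exact Groth.L27.ExtZero.isIso_of_restrAlong j _ fun Ω _ _ ξ hξ =>
    absurd (hξ ⟨default, rfl⟩) (not_not.2 (h.symm ▸ Set.mem_univ _))

theorem isZero_extZero_of_isEmpty {U : Scheme.{u}} [IsEmpty U] (j : U ⟶ X) [IsOpenImmersion j] (G : EtCoh.Ab U) :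
    IsZero ((EtShriek.extZero j).obj G) :=
  (Groth.L27.EtSite.isZero_iff_stalks _).2 fun Ω _ _ ξ =>
    Groth.L27.ExtZero.isZero_stalk_extZero_of_outside j ξ (fun _ _ h' => isEmptyElim h'.choose) G

/-- one step of the filtration -/
theorem exists_step (F : EtCoh.Ab X) {U V : X.Opens} (h : U ≤ V) {W : Scheme.{u}} (c : W ⟶ V.toScheme) [IsClosedImmersion c]
    (hc : Set.range c.base = (Set.range (X.homOfLE h).base)ᶜ) :
    ∃ (a : (EtShriek.extZero U.ι).obj ((EtShriek.restrAlong U.ι).obj F) ⟶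
        (EtShriek.extZero V.ι).obj ((EtShriek.restrAlong V.ι).obj F))
      (π : (EtShriek.extZero V.ι).obj ((EtShriek.restrAlong V.ι).obj F) ⟶
        (EtShriek.extZero V.ι).obj ((EtCoh.push c).obj ((EtCoh.pull c).obj ((EtShriek.restrAlong V.ι).obj F))))
      (w : a ≫ π = 0), (ShortComplex.mk a π w).ShortExact := by
  obtain ⟨w, hw⟩ := Groth.L27.ExtZero.exists_shortExact_recollement (X.homOfLE h) c
    (by rw [hc, compl_compl]) ((EtShriek.restrAlong V.ι).obj F)
  haveI := Groth.L27.ExtZero.preservesFiniteLimits_extZero V.ι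
  have hmap := hw.map_of_exact (EtShriek.extZero V.ι)
  haveI := Groth.L27.ExtZero.jCont (X.homOfLE h ≫ V.ι)
  let e : (EtShriek.extZero U.ι).obj ((EtShriek.restrAlong U.ι).obj F) ≅
      (EtShriek.extZero V.ι).obj ((EtShriek.extZero (X.homOfLE h)).obj ((EtShriek.restrAlong (X.homOfLE h)).obj
        ((EtShriek.restrAlong V.ι).obj F))) :=
    (EtShriek.extZero U.ι).mapIso (((restrComp (X.homOfLE h) V.ι ≪≫ restrCongr (X.homOfLE_ι h)).app F).symm) ≪≫
      ((extZeroComp (X.homOfLE h) V.ι ≪≫ extZeroCongr (X.homOfLE_ι h)).app _).symm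
  refine ⟨e.hom ≫ (EtShriek.extZero V.ι).map ((EtShriek.extZeroAdj (X.homOfLE h)).counit.app _),
    (EtShriek.extZero V.ι).map ((EtCoh.pullPushAdj c).unit.app _), ?_, ?_⟩
  · exact (Category.assoc _ _ _).trans ((congrArg (fun m => e.hom ≫ m) (((EtShriek.extZero V.ι).map_comp _ _).symm.trans
      ((congrArg (fun m => (EtShriek.extZero V.ι).map m) w).trans (Functor.map_zero _ _ _)))).trans comp_zero)
  · refine ShortComplex.shortExact_of_iso ?_ hmap
    exact ShortComplex.isoMk e.symm (Iso.refl _) (Iso.refl _) ((e.inv_hom_id_assoc _).trans (Category.comp_id _).symm)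
      ((Category.id_comp _).trans (Category.comp_id _).symm)

theorem exists_pattern [CompactSpace X] [QuasiSeparatedSpace X] {F : EtCoh.Ab X} (hF : EtPBC.IsConstructible F) :
    ∃ (m : ℕ) (v : Fin m → X.Opens), (∀ a, IsCompact (v a : Set X)) ∧
      ∀ x : X, ∃ (T : Scheme.{u}) (g : T ⟶ X) (_ : IsImmersion g),
        EtCoh.IsFiniteLocallyConstant ((EtCoh.pull g).obj F) ∧
          ∀ y : X, (∀ a, x ∈ v a ↔ y ∈ v a) → y ∈ Set.range g := by
  classical
  rw [Strata.isConstructible_iff, Strata.loc_iff_strat (Strata.stable_lcPred F)] at hF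
  obtain ⟨n, T, g, h1, h2, -, h4, h5⟩ := hF
  choose S hS hS' using fun i => Strata.exists_opens_determining (h2 i)
  let O : Finset X.Opens := Finset.univ.biUnion S
  obtain ⟨m, ⟨σ⟩⟩ := Finite.exists_equiv_fin O
  refine ⟨m, fun a => (σ.symm a).1, fun a => ?_, fun x => ?_⟩
  · obtain ⟨i, -, hi⟩ := Finset.mem_biUnion.1 (σ.symm a).2
    exact (hS i _ hi).isCompact
  · obtain ⟨i, hi⟩ := Set.mem_iUnion.1 (h4.symm ▸ Set.mem_univ x : x ∈ ⋃ i, Set.range (g i))
    refine ⟨T i, g i, h1 i, h5 i, fun y hy => (hS' i x y fun o ho => ?_).1 hi⟩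
    have := hy (σ ⟨o, Finset.mem_biUnion.2 ⟨i, Finset.mem_univ _, ho⟩⟩)
    simpa using this

theorem isFLC_of_subset_immersion {F : EtCoh.Ab X} {O T : Scheme.{u}} [IsReduced O] (k : O ⟶ X) (g : T ⟶ X)
    [IsImmersion g] (hF : EtCoh.IsFiniteLocallyConstant ((EtCoh.pull g).obj F)) (h : Set.range k ⊆ Set.range g) :
    EtCoh.IsFiniteLocallyConstant ((EtCoh.pull k).obj F) := by
  have hr : Set.range (pullback.fst k g) = Set.univ := by
    rw [Scheme.Pullback.range_fst]
    exact Set.eq_univ_of_forall fun z => h ⟨z, rfl⟩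
  haveI : IsClosedImmersion (pullback.fst k g) := IsClosedImmersion.of_isPreimmersion _ (hr ▸ isClosed_univ)
  haveI : Surjective (pullback.fst k g) := ⟨fun z => (hr.symm ▸ Set.mem_univ z : z ∈ Set.range (pullback.fst k g))⟩
  haveI : IsIso (pullback.fst k g) := isIso_of_isClosedImmersion_of_surjective _
  have e : k = (inv (pullback.fst k g) ≫ pullback.snd k g) ≫ g := by
    rw [Category.assoc, ← pullback.condition, IsIso.inv_hom_id_assoc]
  rw [e]
  exact Strata.stable_lcPred F (inv (pullback.fst k g) ≫ pullback.snd k g) g hF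

theorem exists_filtration [CompactSpace X] [QuasiSeparatedSpace X] (F : EtCoh.Ab X) (hF : EtPBC.IsConstructible F) :
    ∃ (n : ℕ) (E : Fin (n + 1) → EtCoh.Ab X) (ι : ∀ k : Fin n, E k.castSucc ⟶ E k.succ),
      IsZero (E 0) ∧ Nonempty (E (Fin.last n) ≅ F) ∧
      ∀ k : Fin n, ∃ (U W : Scheme.{u}) (j : U ⟶ X) (_ : IsOpenImmersion j) (c : W ⟶ U)
        (_ : IsClosedImmersion c) (G : EtCoh.Ab W)
        (π : E k.succ ⟶ (EtShriek.extZero j).obj ((EtCoh.push c).obj G)) (hz : ι k ≫ π = 0),
        Topology.IsConstructible (Set.range (c ≫ j)) ∧ EtCoh.IsFiniteLocallyConstant G ∧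
        (ShortComplex.mk (ι k) π hz).ShortExact := by
  classical
  obtain ⟨m, v, hv, hpat⟩ := exists_pattern hF
  let cnt : X → Finset (Fin m) := fun x => Finset.univ.filter fun a => x ∈ v a
  let P : ℕ → Set X := fun i => {x | m + 1 ≤ i + (cnt x).card}
  have hP : ∀ i, IsOpen (P i) ∧ IsCompact (P i) := fun i => by
    have e : P i = ⋃ S ∈ (Finset.univ.filter fun S : Finset (Fin m) => m + 1 ≤ i + S.card), ⋂ a ∈ S, (v a : Set X) := by
      ext x
      simp only [P, Set.mem_ofPred_eq, Set.mem_iUnion, Set.mem_iInter, Finset.mem_filter, Finset.mem_univ, true_and,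
        SetLike.mem_coe, exists_prop]
      constructor
      · exact fun hx => ⟨cnt x, hx, fun a ha => (Finset.mem_filter.1 ha).2⟩
      · rintro ⟨S, hS, hx⟩
        exact hS.trans (Nat.add_le_add_left
          (Finset.card_le_card fun a ha => Finset.mem_filter.2 ⟨Finset.mem_univ a, hx a ha⟩) i)
    rw [e]
    refine ⟨isOpen_biUnion fun S _ => isOpen_biInter_finset fun a _ => (v a).2, ?_⟩
    refine Finset.isCompact_biUnion _ fun S _ => ?_
    have : ∀ S : Finset (Fin m), IsOpen (⋂ a ∈ S, (v a : Set X)) ∧ IsCompact (⋂ a ∈ S, (v a : Set X)) := by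
      intro S
      induction S using Finset.induction with
      | empty => simp [CompactSpace.isCompact_univ]
      | insert a S ha ih =>
        rw [Finset.set_biInter_insert]
        exact ⟨(v a).2.inter ih.1, QuasiSeparatedSpace.inter_isCompact _ _ (v a).2 (hv a) ih.1 ih.2⟩
    exact (this S).2
  let U : ℕ → X.Opens := fun i => ⟨P i, (hP i).1⟩
  have hmono : ∀ i, U i ≤ U (i + 1) := fun i x (hx : m + 1 ≤ i + (cnt x).card) => show m + 1 ≤ i + 1 + (cnt x).card by omega
  have step : ∀ i : ℕ, ∃ (W : Scheme.{u}) (c : W ⟶ (U (i + 1)).toScheme) (_ : IsClosedImmersion c),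
      Set.range c.base = (Set.range (X.homOfLE (hmono i)).base)ᶜ ∧
        Topology.IsConstructible (Set.range (c ≫ (U (i + 1)).ι)) ∧
        EtCoh.IsFiniteLocallyConstant ((EtCoh.pull c).obj ((EtShriek.restrAlong (U (i + 1)).ι).obj F)) := by
    intro i
    let Z : Closeds ((U (i + 1)).toScheme) :=
      ⟨((U (i + 1)).ι ⁻¹' (U i : Set X))ᶜ, ((U i).2.preimage (U (i + 1)).ι.continuous).isClosed_compl⟩
    let I := Scheme.IdealSheafData.vanishingIdeal Z
    haveI : IsReduced I.subscheme := Groth.L18.isReduced_vanishingIdeal_subscheme Z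
    have hrc : Set.range I.subschemeι = (Z : Set (U (i + 1)).toScheme) := by
      rw [Scheme.IdealSheafData.range_subschemeι, Scheme.IdealSheafData.coe_support_vanishingIdeal]
    refine ⟨I.subscheme, I.subschemeι, inferInstance, ?_, ?_, ?_⟩
    · refine hrc.trans (congrArg compl (Set.ext fun z => ⟨fun hz => ⟨⟨(U (i + 1)).ι z, hz⟩, ?_⟩, ?_⟩))
      · exact (U (i + 1)).ι.isOpenEmbedding.injective
          (congr($(X.homOfLE_ι (hmono i)) (⟨(U (i + 1)).ι z, hz⟩ : (U i).toScheme)))
      · rintro ⟨y, rfl⟩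
        show (U (i + 1)).ι (X.homOfLE (hmono i) y) ∈ (U i : Set X)
        rw [← Scheme.Hom.comp_apply, X.homOfLE_ι]
        exact y.2
    · have e : Set.range (I.subschemeι ≫ (U (i + 1)).ι) = P (i + 1) \ P i := by
        rw [Scheme.Hom.comp_base, TopCat.coe_comp, Set.range_comp, hrc]
        show (U (i + 1)).ι '' ((U (i + 1)).ι ⁻¹' (U i : Set X))ᶜ = _
        rw [← Set.preimage_compl, Set.image_preimage_eq_range_inter, Scheme.Opens.range_ι]
        rfl
      rw [e]
      exact (((hP (i + 1)).2.isConstructible (hP (i + 1)).1)).sdiff ((hP i).2.isConstructible (hP i).1)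
    · refine Strata.isFLC_of_iso ((EtCoh.pull I.subschemeι).mapIso
        ((Groth.L27.ExtZero.pullRestr (U (i + 1)).ι).app F)) ?_
      refine Strata.isFLC_of_iso ((EtCore.pullComp I.subschemeι (U (i + 1)).ι).app F) ?_
      refine isFLC_of_cover fun w => ?_
      let x : X := (I.subschemeι ≫ (U (i + 1)).ι) w
      obtain ⟨T, g, hg, hT, hsub⟩ := hpat x
      let N : X.Opens := ⟨⋂ a ∈ cnt x, (v a : Set X), isOpen_biInter_finset fun a _ => (v a).2⟩
      let N' : I.subscheme.Opens := (I.subschemeι ≫ (U (i + 1)).ι) ⁻¹ᵁ N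
      have hw : w ∈ N' := Set.mem_iInter₂.2 fun a ha => (Finset.mem_filter.1 ha).2
      refine ⟨N'.toScheme, N'.ι, inferInstance, ⟨⟨w, hw⟩, rfl⟩, ?_⟩
      refine (Strata.lcPred_comp F (I.subschemeι ≫ (U (i + 1)).ι) N'.ι).2 ?_
      refine isFLC_of_subset_immersion (N'.ι ≫ I.subschemeι ≫ (U (i + 1)).ι) g hT ?_
      rintro _ ⟨y, rfl⟩
      refine hsub _ fun a => ?_
      have hcount : ∀ z : I.subscheme, m + 1 = i + 1 + (cnt ((I.subschemeι ≫ (U (i + 1)).ι) z)).card := fun z => by
        have h1 : m + 1 ≤ i + 1 + (cnt ((U (i + 1)).ι (I.subschemeι z))).card := (I.subschemeι z).2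
        have h2 : I.subschemeι z ∈ (Z : Set (U (i + 1)).toScheme) := hrc ▸ Set.mem_range_self z
        have h3 : ¬ m + 1 ≤ i + (cnt ((U (i + 1)).ι (I.subschemeι z))).card := h2
        show m + 1 = i + 1 + (cnt ((U (i + 1)).ι (I.subschemeι z))).card
        omega
      let x' : X := (I.subschemeι ≫ (U (i + 1)).ι) (N'.ι y)
      have hsubset : cnt x ⊆ cnt x' := fun b hb =>
        Finset.mem_filter.2 ⟨Finset.mem_univ b, Set.mem_iInter₂.1 (show N'.ι y ∈ N' from y.2) b hb⟩
      have heq : cnt x = cnt x' := Finset.eq_of_subset_of_card_le hsubset (by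
        have h1 : m + 1 = i + 1 + (cnt x).card := hcount w
        have h2 : m + 1 = i + 1 + (cnt x').card := hcount (N'.ι y)
        omega)
      show x ∈ v a ↔ x' ∈ v a
      constructor
      · intro h
        exact (Finset.mem_filter.1 (heq ▸ Finset.mem_filter.2 ⟨Finset.mem_univ a, h⟩ : a ∈ cnt x')).2
      · intro h
        exact (Finset.mem_filter.1 (heq.symm ▸ Finset.mem_filter.2 ⟨Finset.mem_univ a, h⟩ : a ∈ cnt x)).2
  choose W c hc hrange hcon hflc using step
  choose a π w hS using fun i => exists_step F (hmono i) (c i) (hrange i)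
  refine ⟨m + 1, fun i => (EtShriek.extZero (U i.1).ι).obj ((EtShriek.restrAlong (U i.1).ι).obj F),
    fun k => a k.1, ?_, ⟨?_⟩, fun k => ?_⟩
  · haveI : IsEmpty (U (0 : Fin (m + 2)).1).toScheme := ⟨fun y => by
      have h1 : m + 1 ≤ 0 + (cnt y.1).card := y.2
      have h2 : (cnt y.1).card ≤ m := (Finset.card_le_univ _).trans (Fintype.card_fin m).le
      omega⟩
    exact isZero_extZero_of_isEmpty _ _
  · haveI := isIso_counit_of_univ (U (Fin.last (m + 1)).1).ι (by
      rw [Scheme.Opens.range_ι]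
      exact Set.eq_univ_of_forall fun x => show m + 1 ≤ m + 1 + (cnt x).card from Nat.le_add_right _ _) F
    exact asIso ((EtShriek.extZeroAdj (U (Fin.last (m + 1)).1).ι).counit.app F)
  · exact ⟨(U (k.1 + 1)).toScheme, W k.1, (U (k.1 + 1)).ι, inferInstance, c k.1, hc k.1, _, π k.1, w k.1,
      hcon k.1, hflc k.1, hS k.1⟩

end Groth.L28.ExtShriek
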